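import Groth.Agent.SymAlg.PullBC
import Groth.Agent.PBundle.Basic
import Groth.Agent.QC.Closure
import Groth.Agent.QC.AffineSpec

/-!
Maps out of an inverse image of a quasi-coherent module are the semilinear maps on sections over affines.
-/

set_option autoImplicit false
set_option backward.isDefEq.respectTransparency false
set_option backward.isDefEq.respectTransparency.types false
set_option linter.style.haveILetI false

universe u

open CategoryTheory CategoryTheory.Limits AlgebraicGeometry TopologicalSpace Opposite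
open Groth.Agent.QC (res resO res_res res_self res_smul app_res section_eq_of_locally)

noncomputable section

namespace Groth.Agent.GrassQ

variable {X T : Scheme.{u}} {g : T ⟶ X} {E : X.Modules} {N : T.Modules} {U : X.Opens}

/-- The value of a map out of an inverse image on a section over an open containing the image. -/
def gval (s : (Scheme.Modules.pullback g).obj E ⟶ N) {V : T.Opens} (h : V ≤ g ⁻¹ᵁ U) (m : Γ(E, U)) : Γ(N, V) :=
  res N h (PBundle.sec' g s U m)

theorem gval_res (s : (Scheme.Modules.pullback g).obj E ⟶ N) {V V' : T.Opens} (h : V ≤ g ⁻¹ᵁ U) (h' : V' ≤ V)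
    (m : Γ(E, U)) : res N h' (gval s h m) = gval s (h'.trans h) m := res_res _ _ _ _

theorem gval_eq_app (s : (Scheme.Modules.pullback g).obj E ⟶ N) {V : T.Opens} (h : V ≤ g ⁻¹ᵁ U) (m : Γ(E, U)) :
    gval s h m = s.app V
      (RelTilde.resθ g ((Scheme.Modules.pullbackPushforwardAdjunction g).unit.app E) h m) := by
  exact app_res s h _

theorem gval_add (s : (Scheme.Modules.pullback g).obj E ⟶ N) {V : T.Opens} (h : V ≤ g ⁻¹ᵁ U) (m m' : Γ(E, U)) :
    gval s h (m + m') = gval s h m + gval s h m' := by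
  rw [gval_eq_app, gval_eq_app, gval_eq_app, map_add, map_add]

theorem gval_smul (s : (Scheme.Modules.pullback g).obj E ⟶ N) {V : T.Opens} (h : V ≤ g ⁻¹ᵁ U) (r : Γ(X, U))
    (m : Γ(E, U)) : gval s h (r • m) = (g.appLE U V h).hom r • gval s h m := by
  rw [gval_eq_app, gval_eq_app, map_smulₛₗ, Scheme.Modules.Hom.app_smul]

theorem hom_ext_gval (hE : Coh.IsQCoh E) (hU : IsAffineOpen U) (hgU : (⊤ : T.Opens) ≤ g ⁻¹ᵁ U)
    {a b : (Scheme.Modules.pullback g).obj E ⟶ N} (h : ∀ m, gval a hgU m = gval b hgU m) : a = b := by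
  refine Scheme.Modules.hom_ext _ _ fun V => ?_
  ext y
  refine section_eq_of_locally fun t ht => ?_
  obtain ⟨W, hW, htW, hWV⟩ := exists_isAffineOpen_mem_and_subset (show t ∈ V from ht)
  refine ⟨W, hWV, htW, ?_⟩
  rw [app_res, app_res]
  have hle : W ≤ g ⁻¹ᵁ U := (le_top : W ≤ ⊤).trans hgU
  let F : ((Scheme.Modules.pullback g).obj E ⟶ N) →
      (Γ((Scheme.Modules.pullback g).obj E, W) →ₗ[Γ(T, W)] Γ(N, W)) := fun s =>
    { toFun := fun z => s.app W z
      map_add' := fun z z' => map_add _ z z'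
      map_smul' := fun r z => Scheme.Modules.Hom.app_smul s r z }
  let w : Γ(E, U) →ₛₗ[(g.appLE U W hle).hom] Γ(N, W) :=
    { toFun := gval a hle
      map_add' := gval_add a hle
      map_smul' := gval_smul a hle }
  obtain ⟨f, -, huniq⟩ := RelTilde.isBC_unit g hE hU hW hle Γ(N, W) w
  have ha : F a = f := huniq _ fun m => (gval_eq_app a hle m).symm
  have hb : F b = f := huniq _ fun m => by
    refine (gval_eq_app b hle m).symm.trans ?_
    show gval b hle m = gval a hle m
    rw [← gval_res a hgU le_top m, h, gval_res b hgU le_top m]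
  exact congrArg (fun φ => φ (res _ hWV y)) (ha.trans hb.symm)

/-- On an affine scheme, maps out of quasi-coherent modules are maps on global sections. -/
theorem exists_hom_top {R : CommRingCat.{u}} {P N : (Spec R).Modules} (hP : Coh.IsQCoh P)
    (f : Γ(P, ⊤) →ₗ[Γ(Spec R, ⊤)] Γ(N, ⊤)) : ∃ φ : P ⟶ N, ∀ x, φ.app ⊤ x = f x := by
  haveI : P.IsQuasicoherent := hP
  haveI : IsIso P.fromTildeΓ := Scheme.Modules.isIso_fromTildeΓ_of_isQuasicoherent P
  let f' : moduleSpecΓFunctor.obj P ⟶ moduleSpecΓFunctor.obj N :=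
    ModuleCat.ofHom (X := ↑Γ(P, ⊤)) (Y := ↑Γ(N, ⊤))
      { toFun := fun x => f x
        map_add' := map_add f
        map_smul' := fun r x => by
          simp only [Scheme.Modules.smul_Spec_def, map_smul, RingHom.id_apply] }
  let φ : P ⟶ N := inv P.fromTildeΓ ≫ (tilde.adjunction.homEquiv _ _).symm f'
  have h1 : moduleSpecΓFunctor.map φ = f' := by
    have h2 : (tilde.adjunction.homEquiv (moduleSpecΓFunctor.obj P) N) (P.fromTildeΓ ≫ φ) = f' := by
      simp [φ]
      exact Equiv.apply_symm_apply _ _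
    rw [Adjunction.homEquiv_unit, Functor.map_comp, ← Category.assoc] at h2
    refine Eq.trans ?_ h2
    have := tilde.adjunction.right_triangle_components P
    exact ((congrArg (· ≫ moduleSpecΓFunctor.map φ) this).trans (Category.id_comp _)).symm
  exact ⟨φ, fun x => congr($h1 x)⟩

/-- Maps out of an inverse image on an affine scheme with given values. -/
theorem exists_hom_gval {R : CommRingCat.{u}} {g : Spec R ⟶ X} {N : (Spec R).Modules} (hE : Coh.IsQCoh E)
    (hU : IsAffineOpen U) (hgU : (⊤ : (Spec R).Opens) ≤ g ⁻¹ᵁ U)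
    (χ : Γ(E, U) →ₛₗ[(g.appLE U ⊤ hgU).hom] Γ(N, ⊤)) :
    ∃ s : (Scheme.Modules.pullback g).obj E ⟶ N, ∀ m, gval s hgU m = χ m := by
  obtain ⟨f, hf, -⟩ := RelTilde.isBC_unit g hE hU (isAffineOpen_top _) hgU Γ(N, ⊤) χ
  obtain ⟨φ, hφ⟩ := exists_hom_top (QC.isQCoh_pullback g hE) f
  exact ⟨φ, fun m => by rw [gval_eq_app, hφ]; exact hf m⟩

/-- Sections of an inverse image over an affine open are spanned by inverse images of sections. -/
theorem span_resθ_eq_top (hE : Coh.IsQCoh E) (hU : IsAffineOpen U) {W : T.Opens} (hW : IsAffineOpen W)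
    (h : W ≤ g ⁻¹ᵁ U) :
    Submodule.span Γ(T, W) (Set.range
      (RelTilde.resθ g ((Scheme.Modules.pullbackPushforwardAdjunction g).unit.app E) h)) = ⊤ := by
  let S := Submodule.span Γ(T, W) (Set.range
    (RelTilde.resθ g ((Scheme.Modules.pullbackPushforwardAdjunction g).unit.app E) h))
  let w : Γ(E, U) →ₛₗ[(g.appLE U W h).hom] (_ ⧸ S) := 0
  obtain ⟨f, -, huniq⟩ := RelTilde.isBC_unit g hE hU hW h _ w
  have h1 : S.mkQ = f := huniq _ fun m => (Submodule.Quotient.mk_eq_zero S).2 (Submodule.subset_span ⟨m, rfl⟩)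
  have h2 : (0 : _ →ₗ[Γ(T, W)] (_ ⧸ S)) = f := huniq _ fun m => rfl
  refine Eq.trans (Submodule.ker_mkQ S).symm ?_
  rw [h1.trans h2.symm]
  exact LinearMap.ker_zero

/-- A quotient of an inverse image is spanned by the values over affine opens. -/
theorem span_gval_eq_top (hE : Coh.IsQCoh E) (hU : IsAffineOpen U) (hN : Coh.IsQCoh N)
    (s : (Scheme.Modules.pullback g).obj E ⟶ N) [Epi s] {W : T.Opens} (hW : IsAffineOpen W) (h : W ≤ g ⁻¹ᵁ U) :
    Submodule.span Γ(T, W) (Set.range (gval s h)) = ⊤ := by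
  let σ : Γ((Scheme.Modules.pullback g).obj E, W) →ₗ[Γ(T, W)] Γ(N, W) :=
    { toFun := fun z => s.app W z
      map_add' := fun z z' => map_add _ z z'
      map_smul' := fun r z => Scheme.Modules.Hom.app_smul s r z }
  have hσ : Function.Surjective σ := QC.app_surjective_of_epi hW (QC.isQCoh_pullback g hE) hN s
  have h1 := congrArg (Submodule.map σ) (span_resθ_eq_top (g := g) hE hU hW h)
  rw [Submodule.map_span, Submodule.map_top, LinearMap.range_eq_top.2 hσ, ← Set.range_comp] at h1
  rw [← h1]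
  congr 2
  funext m
  exact gval_eq_app s h m

end Groth.Agent.GrassQ

end
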