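import Groth.Agent.GrassQ.Main

/-!
Universal pairs: consequences of the universal property of a Grassmannian.
-/

set_option autoImplicit false
set_option backward.isDefEq.respectTransparency false
set_option backward.isDefEq.respectTransparency.types false
set_option linter.style.haveILetI false

universe u

open CategoryTheory CategoryTheory.Limits AlgebraicGeometry TopologicalSpace Opposite

noncomputable section

namespace Groth.Agent.GrassQ

variable {X : Scheme.{u}} {E : X.Modules} {e : ℕ} {G : Scheme.{u}}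

/-- A universal quotient. -/
def IsUniv (A : Pair E e G) : Prop := ∀ {T : Scheme.{u}} (a : Pair E e T), ∃! m : T ⟶ G, Rel (A.pull m _ rfl) a

theorem rel_pull_iff (A : Pair E e G) {T : Scheme.{u}} (a : Pair E e T) (m : T ⟶ G) :
    Rel (A.pull m _ rfl) a ↔
      ∃ (hg : m ≫ A.g = a.g) (i : (Scheme.Modules.pullback m).obj A.L ≅ a.L), Grass.quotBC hg A.s ≫ i.hom = a.s := by
  obtain ⟨g, L, r, s, hs⟩ := a
  refine ⟨?_, ?_⟩
  · rintro ⟨hg, i, hi⟩
    dsimp only [Pair.pull] at hg
    subst hg
    refine ⟨rfl, i, ?_⟩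
    simpa [Scheme.Modules.pullbackCongr, Pair.pull] using hi
  · rintro ⟨hg, i, hi⟩
    dsimp only at hg i hi
    subst hg
    refine ⟨rfl, i, ?_⟩
    simpa [Scheme.Modules.pullbackCongr, Pair.pull] using hi

/-- The universal quotient of a Grassmannian is universal. -/
theorem isUniv_of_isGrass {π : G ⟶ X} {Q : G.Modules} {q : (Scheme.Modules.pullback π).obj E ⟶ Q}
    (h : Grass.IsGrass π E e Q q) : IsUniv ⟨π, Q, h.rank, q, h.epi⟩ := fun a => by
  obtain ⟨m, hm, huniq⟩ := h.univ _ a.g a.L a.rank a.s a.epi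
  exact ⟨m, (rel_pull_iff _ a m).2 hm, fun m' hm' => huniq m' ((rel_pull_iff _ a m').1 hm')⟩

theorem IsUniv.exists_chartIso {A : Pair E e G} (hA : IsUniv A) (hE : Coh.IsQCoh E) (c : Idx E e) :
    ∃ k : (locus c A).toScheme ⟶ chartScheme c, IsIso k ∧
      Rel ((univPair c hE).pull k _ rfl) (A.pull (locus c A).ι _ rfl) := by
  let O := locus c A
  obtain ⟨k, hk, -⟩ := existsUnique_classify c hE (A.pull O.ι _ rfl)
    ((fun hO => good_pull c A O.ι _ rfl hO) fun x => x.2)
  obtain ⟨m, hm, -⟩ := hA (univPair c hE)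
  have hrange : Set.range m ⊆ Set.range O.ι := by
    rintro _ ⟨t, rfl⟩
    rw [Scheme.Opens.range_ι]
    exact mem_locus_of_good_pull c A m _ rfl (good_of_rel c hm.symm (good_univPair c hE)) t
  let m' : chartScheme c ⟶ O.toScheme := IsOpenImmersion.lift O.ι m hrange
  have hm' : m' ≫ O.ι = m := IsOpenImmersion.lift_fac _ _ _
  have h1 : k ≫ m' = 𝟙 _ := by
    rw [← cancel_mono O.ι, Category.assoc, hm', Category.id_comp]
    refine (hA (A.pull O.ι _ rfl)).unique ?_ (Rel.refl _)
    exact ((pull_pull A m k rfl rfl rfl rfl).symm.trans (pull_congr hm k rfl rfl)).trans hk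
  have h2 : m' ≫ k = 𝟙 _ := by
    refine (existsUnique_classify c hE (univPair c hE) (good_univPair c hE)).unique ?_ (pull_id _ _)
    exact (((pull_pull _ k m' rfl rfl rfl rfl).symm.trans (pull_congr hk m' rfl rfl)).trans
      (pull_pull A O.ι m' rfl rfl hm' rfl)).trans hm
  exact ⟨k, ⟨m', h1, h2⟩, hk⟩

theorem IsUniv.isAffineOpen_locus {A : Pair E e G} (hA : IsUniv A) (hE : Coh.IsQCoh E) (c : Idx E e) :
    IsAffineOpen (locus c A) := by
  obtain ⟨k, hk, -⟩ := hA.exists_chartIso hE c
  exact IsAffine.of_isIso k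

end Groth.Agent.GrassQ

end
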