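import Groth.Agent.GrassQ.Univ
import Groth.Agent.HilbFin.Det
import Groth.Agent.SGA6Ext.Lambda

/-!
The Plücker quotient of an exterior power attached to a quotient.
-/

set_option autoImplicit false
set_option backward.isDefEq.respectTransparency false
set_option backward.isDefEq.respectTransparency.types false
set_option linter.style.haveILetI false

universe u

open CategoryTheory CategoryTheory.Limits AlgebraicGeometry TopologicalSpace Opposite
open Groth.Agent.QC (res resO res_res res_self res_smul app_res)
open Groth.Agent.SGA6Ext (extSh Phi PhiCompat)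
open Groth.Agent.HilbFin (wedge wedge_res)
open TMul (IsFrame IsGen)

noncomputable section

namespace Groth.Agent.GrassQ

variable {X : Scheme.{u}} {V : X.Modules} {e : ℕ} {T : Scheme.{u}}

theorem isFrame_one_iff {N : T.Modules} {W : T.Opens} (f : Fin 1 → Γ(N, W)) : IsFrame f ↔ IsGen (f 0) := by
  have hfun : ∀ (W' : T.Opens) (h : W' ≤ W),
      (fun a : Fin 1 → Γ(T, W') => ∑ i, a i • res N h (f i)) =
        (fun a : Γ(T, W') => a • res N h (f 0)) ∘ (LinearEquiv.funUnique (Fin 1) Γ(T, W') Γ(T, W')) := fun W' h => by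
    funext a
    rw [Fin.sum_univ_one]
    rfl
  refine ⟨fun hf W' h => ?_, fun hg => W7Strat.isFrame_of_bijective fun W' h => ?_⟩
  · have hb : Function.Bijective fun a : Fin 1 → Γ(T, W') => ∑ i, a i • res N h (f i) :=
      ⟨hf.comb_injective h, hf.comb_surjective h⟩
    rw [hfun W' h] at hb
    exact (Function.Bijective.of_comp_iff _ (LinearEquiv.bijective _)).1 hb
  · rw [hfun W' h]
    exact (hg W' h).comp (LinearEquiv.bijective _)

variable (A : Pair V e T)

/-- The wedge of values of sections. -/
def wv (U : X.Opens) (v : Fin e → Γ(V, U)) : Γ(extSh A.L e, A.g ⁻¹ᵁ U) :=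
  wedge fun i => PBundle.sec' A.g A.s U (v i)

theorem sec'_res {U U' : X.Opens} (h : U' ≤ U) (m : Γ(V, U)) :
    res A.L (A.g.preimage_mono h) (PBundle.sec' A.g A.s U m) = PBundle.sec' A.g A.s U' (res V h m) := by
  rw [PBundle.sec', PBundle.sec', app_res, PBundle.pullSect_res]

theorem wv_res {U U' : X.Opens} (h : U' ≤ U) (v : Fin e → Γ(V, U)) :
    res (extSh A.L e) (A.g.preimage_mono h) (wv A U v) = wv A U' fun i => res V h (v i) := by
  refine (wedge_res _ _).trans (congrArg wedge (funext fun i => ?_))
  exact sec'_res A h (v i)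

theorem wv_update_add (U : X.Opens) (v : Fin e → Γ(V, U)) (k : Fin e) (a b : Γ(V, U)) :
    wv A U (Function.update v k (a + b)) = wv A U (Function.update v k a) + wv A U (Function.update v k b) := by
  have hu : ∀ z, (fun i => PBundle.sec' A.g A.s U (Function.update v k z i)) =
      Function.update (fun i => PBundle.sec' A.g A.s U (v i)) k (PBundle.sec' A.g A.s U z) := fun z =>
    funext fun i => Function.apply_update (fun _ => PBundle.sec' A.g A.s U) v k z i
  simp only [wv, hu]
  rw [show PBundle.sec' A.g A.s U (a + b) = PBundle.sec' A.g A.s U a + PBundle.sec' A.g A.s U b by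
    simp only [PBundle.sec', map_add]]
  exact HilbFin.wedge_update_add _ _ _ _

theorem wv_update_smul (U : X.Opens) (v : Fin e → Γ(V, U)) (k : Fin e) (r : Γ(X, U)) (a : Γ(V, U)) :
    wv A U (Function.update v k (r • a)) = (A.g.app U).hom r • wv A U (Function.update v k a) := by
  have hu : ∀ z, (fun i => PBundle.sec' A.g A.s U (Function.update v k z i)) =
      Function.update (fun i => PBundle.sec' A.g A.s U (v i)) k (PBundle.sec' A.g A.s U z) := fun z =>
    funext fun i => Function.apply_update (fun _ => PBundle.sec' A.g A.s U) v k z i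
  simp only [wv, hu]
  rw [show PBundle.sec' A.g A.s U (r • a) = (A.g.app U).hom r • PBundle.sec' A.g A.s U a by
    simp only [PBundle.sec', OmegaSh.pullSect_smul, Scheme.Modules.Hom.app_smul]]
  exact HilbFin.wedge_update_smul _ _ _ _

theorem wv_eq_zero (U : X.Opens) (v : Fin e → Γ(V, U)) {i j : Fin e} (h : v i = v j) (hij : i ≠ j) :
    wv A U v = 0 :=
  HilbFin.wedge_eq_zero _ (congrArg (PBundle.sec' A.g A.s U) h) hij

variable {L : X.Modules} (φ : Phi e V L) (hφ : PhiCompat φ)

/-- A decomposable section of the exterior power. -/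
def dec {U : X.Opens} (hU : IsAffineOpen U) (v : Fin e → Γ(V, U)) : Γ(L, U) :=
  (φ ⟨U, hU⟩).symm (exteriorPower.ιMulti _ e fun i => (v i : SGA6Ext.Sec V U))

include hφ in
theorem exists_plucker : ∃ ℓ : (Scheme.Modules.pullback A.g).obj L ⟶ extSh A.L e,
    ∀ {U : X.Opens} (hU : IsAffineOpen U) (v : Fin e → Γ(V, U)),
      PBundle.sec' A.g ℓ U (dec φ hU v) = wv A U v := by
  let P := (Scheme.Modules.pushforward A.g).obj (extSh A.L e)
  let alt : ∀ U : X.Opens, (SGA6Ext.Sec V U) [⋀^Fin e]→ₗ[Γ(X, U)] SGA6Ext.Sec P U := fun U =>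
    { toFun := fun v => wv A U fun i => v i
      map_update_add' := fun {inst} v k a b => by
        rw [Subsingleton.elim inst (instDecidableEqFin e)]
        exact wv_update_add A U v k a b
      map_update_smul' := fun {inst} v k r a => by
        rw [Subsingleton.elim inst (instDecidableEqFin e)]
        exact wv_update_smul A U v k r a
      map_eq_zero_of_eq' := fun v i j h hij => wv_eq_zero A U v h hij }
  let f : ∀ U : X.Opens, IsAffineOpen U → (SGA6Ext.Sec L U →ₗ[Γ(X, U)] SGA6Ext.Sec P U) := fun U hU =>
    (exteriorPower.alternatingMapLinearEquiv (alt U)).comp (φ ⟨U, hU⟩).toLinearMap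
  have hfdec : ∀ (U : X.Opens) (hU : IsAffineOpen U) (v : Fin e → Γ(V, U)), f U hU (dec φ hU v) = wv A U v :=
    fun U hU v => by
      simp only [f, dec, LinearMap.comp_apply, LinearEquiv.coe_coe, LinearEquiv.apply_symm_apply,
        exteriorPower.alternatingMapLinearEquiv_apply_ιMulti]
      rfl
  obtain ⟨η, hη⟩ := SGA6Ext.exists_linHom (M := L) (P := P) SGA6Ext.isBase_affine f fun W U hW hU h m => by
    obtain ⟨z, rfl⟩ := (φ ⟨U, hU⟩).symm.surjective m
    have hz : z ∈ Submodule.span Γ(X, U) (Set.range (exteriorPower.ιMulti Γ(X, U) e (M := SGA6Ext.Sec V U))) := by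
      rw [exteriorPower.ιMulti_span]; trivial
    induction hz using Submodule.span_induction with
    | mem z hz =>
      obtain ⟨v, rfl⟩ := hz
      change res P h (f U hU (dec φ hU v)) = f W hW (res L h (dec φ hU v))
      rw [hfdec, show res L h (dec φ hU v) = dec φ hW fun i => res V h (v i) from hφ ⟨U, hU⟩ ⟨W, hW⟩ h fun i => v i,
        hfdec]
      exact wv_res A h v
    | zero => simp
    | add a b _ _ ha hb => simp only [map_add, ha, hb]
    | smul r a _ ha =>
      rw [map_smul, map_smul]
      refine (res_smul P h r _).trans ?_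
      rw [ha, res_smul L h r, map_smul]
  refine ⟨((Scheme.Modules.pullbackPushforwardAdjunction A.g).homEquiv _ _).symm η, fun {U} hU v => ?_⟩
  have h1 := ((Scheme.Modules.pullbackPushforwardAdjunction A.g).homEquiv L (extSh A.L e)).apply_symm_apply η
  rw [Adjunction.homEquiv_unit] at h1
  refine Eq.trans ?_ ((hη U hU (dec φ hU v)).trans (hfdec U hU v))
  exact congr(($h1).app U (dec φ hU v))

end Groth.Agent.GrassQ

end
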