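import Groth.Agent.GrassQ.Locus
import Groth.Agent.HilbRep.Chart
import Groth.Agent.PBundle.TopPower

/-!
The affine charts of the Grassmannian functor.
-/

set_option autoImplicit false
set_option backward.isDefEq.respectTransparency false
set_option backward.isDefEq.respectTransparency.types false
set_option linter.style.haveILetI false

universe u

open CategoryTheory CategoryTheory.Limits AlgebraicGeometry TopologicalSpace Opposite
open Groth.Agent.QC (res resO res_res res_self res_smul app_res)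
open Groth.Agent.HilbRep (toSpec toSpec_map exists_toSpec toSpec_inj)
open TMul (IsFrame)

noncomputable section

namespace Groth.Agent.GrassQ

theorem appLE_toSpec_fromSpec {X T : Scheme.{u}} {U : X.Opens} (hU : IsAffineOpen U) (χ : Γ(X, U) ⟶ Γ(T, ⊤))
    (h : (⊤ : T.Opens) ≤ (toSpec χ ≫ hU.fromSpec) ⁻¹ᵁ U) : (toSpec χ ≫ hU.fromSpec).appLE U ⊤ h = χ := by
  have e : (⊤ : (Spec Γ(X, U)).Opens) ≤ hU.fromSpec ⁻¹ᵁ U := hU.fromSpec_preimage_self.ge
  rw [← Scheme.Hom.appLE_comp_appLE (toSpec χ) hU.fromSpec U ⊤ ⊤ e (fun _ _ => trivial)]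
  have h1 : hU.fromSpec.appLE U ⊤ e = (Scheme.ΓSpecIso Γ(X, U)).inv := by
    rw [Scheme.Hom.appLE, hU.fromSpec_app_self, Category.assoc, ← Functor.map_comp, ← op_comp,
      show (homOfLE e ≫ eqToHom hU.fromSpec_preimage_self) = 𝟙 (⊤ : (Spec Γ(X, U)).Opens) from
      Subsingleton.elim _ _, op_id, CategoryTheory.Functor.map_id, Category.comp_id]
  rw [h1, show (toSpec χ).appLE ⊤ ⊤ (fun _ _ => trivial) = (toSpec χ).appTop by
    simp [Scheme.Hom.appTop, Scheme.Hom.appLE], HilbRep.appTop_toSpec, Iso.inv_hom_id_assoc]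

theorem eq_toSpec_appLE {X T : Scheme.{u}} (g : T ⟶ X) {U : X.Opens} (hU : IsAffineOpen U)
    (h : (⊤ : T.Opens) ≤ g ⁻¹ᵁ U) : g = toSpec (g.appLE U ⊤ h) ≫ hU.fromSpec := by
  have hr : Set.range g ⊆ Set.range hU.fromSpec := by
    rintro _ ⟨t, rfl⟩
    rw [hU.range_fromSpec]
    exact h (x := t) trivial
  obtain ⟨χ, hχ⟩ := exists_toSpec (IsOpenImmersion.lift hU.fromSpec g hr)
  have e1 : toSpec χ ≫ hU.fromSpec = g := by rw [← hχ, IsOpenImmersion.lift_fac]
  subst e1
  rw [appLE_toSpec_fromSpec hU χ h]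

variable {X : Scheme.{u}} {E : X.Modules} {e : ℕ} (c : Idx E e)

/-- Polynomials in the coordinates of the sections. -/
abbrev ChartPoly : Type u := MvPolynomial (Γ(E, c.U) × Fin e) Γ(X, c.U)

/-- The relations: linearity and normalisation on the chosen sections. -/
def chartRel : Set (ChartPoly c) :=
  {p | (∃ m m' k, p = MvPolynomial.X (m + m', k) - MvPolynomial.X (m, k) - MvPolynomial.X (m', k)) ∨
    (∃ a m k, p = MvPolynomial.X (a • m, k) - MvPolynomial.C a * MvPolynomial.X (m, k)) ∨
    ∃ i k, p = MvPolynomial.X (c.σ i, k) - MvPolynomial.C (if i = k then 1 else 0)}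

/-- The coordinate ring of a chart. -/
abbrev ChartRing : Type u := ChartPoly c ⧸ Ideal.span (chartRel c)

/-- A chart. -/
abbrev chartScheme : Scheme.{u} := Spec (CommRingCat.of (ChartRing c))

/-- The structure map of the coordinate ring. -/
def chartConst : Γ(X, c.U) ⟶ CommRingCat.of (ChartRing c) :=
  CommRingCat.ofHom ((Ideal.Quotient.mk _).comp MvPolynomial.C)

/-- The morphism of a chart to the base. -/
def chartBase : chartScheme c ⟶ X := Spec.map (chartConst c) ≫ c.hU.fromSpec

theorem chartBase_le : (⊤ : (chartScheme c).Opens) ≤ chartBase c ⁻¹ᵁ c.U := fun x _ => by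
  show chartBase c x ∈ c.U
  have h : chartBase c x ∈ Set.range c.hU.fromSpec := ⟨Spec.map (chartConst c) x, rfl⟩
  rwa [c.hU.range_fromSpec] at h

theorem chartBase_appLE :
    (chartBase c).appLE c.U ⊤ (chartBase_le c) = chartConst c ≫ (Scheme.ΓSpecIso _).inv :=
  by
    have h : chartBase c = toSpec (chartConst c ≫ (Scheme.ΓSpecIso _).inv) ≫ c.hU.fromSpec := by
      obtain ⟨χ, hχ⟩ := exists_toSpec (Spec.map (chartConst c))
      have h2 := congrArg Scheme.Hom.appTop hχ
      rw [HilbRep.appTop_toSpec] at h2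
      rw [chartBase, hχ]
      congr 2
      rw [← cancel_epi (Scheme.ΓSpecIso _).hom, ← h2, ← Scheme.ΓSpecIso_naturality_assoc, Iso.hom_inv_id,
        Category.comp_id]
    have key : ∀ (g : chartScheme c ⟶ X) (_ : g = toSpec (chartConst c ≫ (Scheme.ΓSpecIso _).inv) ≫ c.hU.fromSpec)
        (e : (⊤ : (chartScheme c).Opens) ≤ g ⁻¹ᵁ c.U),
        g.appLE c.U ⊤ e = chartConst c ≫ (Scheme.ΓSpecIso _).inv := by
      rintro _ rfl e
      exact appLE_toSpec_fromSpec c.hU _ e
    exact key _ h _

/-- A coordinate as a function. -/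
def coordFn (m : Γ(E, c.U)) (k : Fin e) : Γ(chartScheme c, ⊤) :=
  (Scheme.ΓSpecIso (CommRingCat.of (ChartRing c))).inv (Ideal.Quotient.mk _ (MvPolynomial.X (m, k)))

theorem coordFn_add (m m' : Γ(E, c.U)) (k : Fin e) : coordFn c (m + m') k = coordFn c m k + coordFn c m' k := by
  rw [coordFn, coordFn, coordFn, ← map_add]
  congr 1
  rw [← map_add, Ideal.Quotient.eq]
  exact Ideal.subset_span (Or.inl ⟨m, m', k, by ring⟩)

theorem coordFn_smul (a : Γ(X, c.U)) (m : Γ(E, c.U)) (k : Fin e) :
    coordFn c (a • m) k = ((chartBase c).appLE c.U ⊤ (chartBase_le c)).hom a * coordFn c m k := by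
  rw [chartBase_appLE]
  change _ = (Scheme.ΓSpecIso (CommRingCat.of (ChartRing c))).inv (Ideal.Quotient.mk _ (MvPolynomial.C a)) *
    (Scheme.ΓSpecIso (CommRingCat.of (ChartRing c))).inv (Ideal.Quotient.mk _ _)
  rw [coordFn, ← map_mul]
  congr 1
  rw [← map_mul, Ideal.Quotient.eq]
  exact Ideal.subset_span (Or.inr (Or.inl ⟨a, m, k, rfl⟩))

theorem coordFn_σ (i k : Fin e) : coordFn c (c.σ i) k = if i = k then 1 else 0 := by
  have h : (Ideal.Quotient.mk (Ideal.span (chartRel c))) (MvPolynomial.X (c.σ i, k)) =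
      Ideal.Quotient.mk _ (MvPolynomial.C (if i = k then (1 : Γ(X, c.U)) else 0)) :=
    Ideal.Quotient.eq.2 (Ideal.subset_span (Or.inr (Or.inr ⟨i, k, rfl⟩)))
  rw [coordFn, h]
  split_ifs <;> simp

/-- The universal values on a chart. -/
def univVal : Γ(E, c.U) →ₛₗ[((chartBase c).appLE c.U ⊤ (chartBase_le c)).hom]
    Γ(FlatMod.freeMod (chartScheme c) e, ⊤) where
  toFun m := ∑ k, coordFn c m k • PBundle.bv (chartScheme c) k
  map_add' m m' := by simp only [coordFn_add, add_smul, Finset.sum_add_distrib]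
  map_smul' a m := by simp only [coordFn_smul, mul_smul, Finset.smul_sum]

theorem univVal_σ (i : Fin e) : univVal c (c.σ i) = PBundle.bv (chartScheme c) i := by
  change ∑ k, coordFn c (c.σ i) k • PBundle.bv (chartScheme c) k = _
  simp [coordFn_σ]

theorem exists_univPair (hE : Coh.IsQCoh E) : ∃ u : Pair E e (chartScheme c),
    ∃ hg : u.g = chartBase c, ∃ hL : FlatMod.freeMod (chartScheme c) e ≅ u.L,
      ∀ m, gval u.s (hg.symm ▸ chartBase_le c) m = hL.hom.app ⊤ (univVal c m) := by
  obtain ⟨s, hs⟩ := exists_hom_gval hE c.hU (chartBase_le c) (univVal c)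
  have hfr : IsFrame (N := FlatMod.freeMod (chartScheme c) e) (U := (⊤ : (chartScheme c).Opens))
      (PBundle.bv (chartScheme c)) := PBundle.isFrame_bv _ _
  haveI hepi : Epi s := by
    obtain ⟨ψ, hψ⟩ := PBundle.exists_hom_frame (N := (Scheme.Modules.pullback (chartBase c)).obj E) hfr rfl
      fun i => gval (𝟙 _) (chartBase_le c) (c.σ i)
    haveI : IsSplitEpi s := IsSplitEpi.mk' ⟨ψ, PBundle.hom_ext_frame hfr rfl fun i => by
      change s.app ⊤ (ψ.app ⊤ (PBundle.bv (chartScheme c) i)) = PBundle.bv (chartScheme c) i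
      rw [hψ, gval]
      exact (app_res s (chartBase_le c) _).symm.trans ((hs (c.σ i)).trans (univVal_σ c i))⟩
    infer_instance
  have hrank : FlatMod.IsFinLocFreeOfRank e (FlatMod.freeMod (chartScheme c) e) :=
    W7Strat.isFinLocFreeOfRank_of_frames fun x => ⟨⊤, _, trivial, hfr⟩
  refine ⟨⟨chartBase c, _, hrank, s, hepi⟩, rfl, Iso.refl _, fun m => ?_⟩
  exact hs m

variable (hE : Coh.IsQCoh E)

/-- The universal quotient on a chart. -/
def univPair : Pair E e (chartScheme c) := (exists_univPair c hE).choose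

theorem univPair_g : (univPair c hE).g = chartBase c := (exists_univPair c hE).choose_spec.choose

theorem univPair_le : (⊤ : (chartScheme c).Opens) ≤ (univPair c hE).g ⁻¹ᵁ c.U := by
  rw [univPair_g]; exact chartBase_le c

theorem gval_univPair_σ :
    IsFrame (fun i => gval (univPair c hE).s (univPair_le c hE) (c.σ i)) ∧
      ∀ m, gval (univPair c hE).s (univPair_le c hE) m =
        ∑ k, coordFn c m k • gval (univPair c hE).s (univPair_le c hE) (c.σ k) := by
  obtain ⟨hL, h⟩ := (exists_univPair c hE).choose_spec.choose_spec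
  have hσ : ∀ i, gval (univPair c hE).s (univPair_le c hE) (c.σ i) = hL.hom.app ⊤ (PBundle.bv _ i) := fun i =>
    (h (c.σ i)).trans (congrArg _ (univVal_σ c i))
  refine ⟨?_, fun m => ?_⟩
  · simp only [hσ]
    exact W7Strat.isFrame_app hL (PBundle.isFrame_bv _ _)
  · simp only [hσ]
    refine (h m).trans ?_
    change hL.hom.app ⊤ (∑ k, coordFn c m k • PBundle.bv (chartScheme c) k) = _
    rw [map_sum]
    exact Finset.sum_congr rfl fun k _ => Scheme.Modules.Hom.app_smul hL.hom _ _

theorem good_univPair : Good c (univPair c hE) := ⟨univPair_le c hE, (gval_univPair_σ c hE).1⟩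

variable {T : Scheme.{u}}

/-- The coordinates of a good quotient determine a unique point of the chart. -/
theorem existsUnique_classify (a : Pair E e T) (ha : Good c a) :
    ∃! h : T ⟶ chartScheme c, Rel ((univPair c hE).pull h _ rfl) a := by
  classical
  obtain ⟨hle, hfr⟩ := ha
  let F : Fin e → Γ(a.L, ⊤) := fun i => gval a.s hle (c.σ i)
  let eqv := hfr.equiv (le_refl (⊤ : T.Opens))
  have heqv : ∀ v, eqv v = ∑ i, v i • F i := fun v => by
    change ∑ i, v i • res a.L _ (F i) = _
    simp only [res_self]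
  let co : Γ(E, c.U) → Fin e → Γ(T, ⊤) := fun m => eqv.symm (gval a.s hle m)
  have hco : ∀ m, ∑ i, co m i • F i = gval a.s hle m := fun m =>
    (heqv (co m)).symm.trans (eqv.apply_symm_apply _)
  have co_unique : ∀ m (v : Fin e → Γ(T, ⊤)), ∑ i, v i • F i = gval a.s hle m → co m = v := fun m v hv => by
    refine eqv.symm_apply_eq.2 ?_
    rw [heqv, hv]
  let ρ := (a.g.appLE c.U ⊤ hle).hom
  let ev : ChartPoly c →+* Γ(T, ⊤) := MvPolynomial.eval₂Hom ρ fun mk => co mk.1 mk.2
  have hev : ∀ p ∈ chartRel c, ev p = 0 := by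
    rintro p (⟨m, m', k, rfl⟩ | ⟨r, m, k, rfl⟩ | ⟨i, k, rfl⟩)
    · simp only [ev, map_sub, MvPolynomial.eval₂Hom_X', co, gval_add, map_add, Pi.add_apply]
      ring
    · simp only [ev, map_sub, map_mul, MvPolynomial.eval₂Hom_X', MvPolynomial.eval₂Hom_C, co, gval_smul,
        map_smul, Pi.smul_apply, smul_eq_mul]
      exact sub_self _
    · have : co (c.σ i) = fun k => if i = k then 1 else 0 := co_unique _ _ (by simp [F])
      simp only [ev, map_sub, MvPolynomial.eval₂Hom_X', MvPolynomial.eval₂Hom_C, this]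
      split_ifs <;> simp
  let χ : CommRingCat.of (ChartRing c) ⟶ Γ(T, ⊤) :=
    CommRingCat.ofHom (Ideal.Quotient.lift _ ev fun p hp => by
      change p ∈ RingHom.ker ev
      exact Ideal.span_le.2 (fun q hq => hev q hq) hp)
  have happ : ∀ (χ' : CommRingCat.of (ChartRing c) ⟶ Γ(T, ⊤)) (b : ChartRing c),
      (toSpec χ').appTop.hom ((Scheme.ΓSpecIso (CommRingCat.of (ChartRing c))).inv b) = χ'.hom b := fun χ' b => by
    rw [HilbRep.appTop_toSpec]
    exact congrArg χ'.hom (Iso.inv_hom_id_apply (Scheme.ΓSpecIso (CommRingCat.of (ChartRing c))) b)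
  -- values of a pulled back universal quotient
  have hval : ∀ (h : T ⟶ chartScheme c) (g' : T ⟶ X) (hg : h ≫ (univPair c hE).g = g')
      (hle' : (⊤ : T.Opens) ≤ g' ⁻¹ᵁ c.U) (m : Γ(E, c.U)),
      gval ((univPair c hE).pull h g' hg).s hle' m =
        ∑ k, h.appTop.hom (coordFn c m k) • gval ((univPair c hE).pull h g' hg).s hle' (c.σ k) := by
    intro h g' hg hle' m
    have key : ∀ n, gval ((univPair c hE).pull h g' hg).s hle' n =
        OmegaSh.pullSect h (univPair c hE).L ⊤ (gval (univPair c hE).s (univPair_le c hE) n) := fun n => by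
      rw [gval_pull, gval, PBundle.pullSect_res]
      rfl
    simp only [key]
    rw [(gval_univPair_σ c hE).2 m, map_sum]
    exact Finset.sum_congr rfl fun k _ => OmegaSh.pullSect_smul h _ ⊤ _ _
  refine ⟨toSpec χ, ?_, fun h' hh' => ?_⟩
  · have hg : toSpec χ ≫ (univPair c hE).g = a.g := by
      rw [univPair_g, chartBase, ← Category.assoc, toSpec_map]
      have h1 : chartConst c ≫ χ = a.g.appLE c.U ⊤ hle := by
        refine CommRingCat.hom_ext (RingHom.ext fun r => ?_)
        change ev (MvPolynomial.C r) = _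
        rw [MvPolynomial.eval₂Hom_C]
      rw [h1]
      exact (eq_toSpec_appLE a.g c.hU hle).symm
    let b := (univPair c hE).pull (toSpec χ) a.g hg
    refine (pull_congr (Rel.refl _) _ rfl hg).trans ?_
    have hb : IsFrame fun i => gval b.s hle (c.σ i) := by
      obtain ⟨hle', h⟩ := good_of_rel c (pull_congr (Rel.refl _) _ (rfl) hg)
        (good_pull c (univPair c hE) (toSpec χ) _ rfl fun x =>
          mem_locus_of_good_pull c (univPair c hE) (𝟙 _) (univPair c hE).g (Category.id_comp _)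
            (good_of_rel c (pull_id (univPair c hE) _).symm (good_univPair c hE)) _)
      exact h
    obtain ⟨φ, hφ⟩ := PBundle.exists_hom_frame hb rfl F
    obtain ⟨ψ, hψ⟩ := PBundle.exists_hom_frame hfr rfl fun i => gval b.s hle (c.σ i)
    let i : b.L ≅ a.L := ⟨φ, ψ, PBundle.hom_ext_frame hb rfl fun i => by
        change ψ.app ⊤ (φ.app ⊤ (gval b.s hle (c.σ i))) = gval b.s hle (c.σ i)
        rw [hφ, hψ],
      PBundle.hom_ext_frame hfr rfl fun i => by
        change φ.app ⊤ (ψ.app ⊤ (F i)) = F i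
        rw [hψ, hφ]⟩
    refine ⟨rfl, i, ?_⟩
    rw [show (Scheme.Modules.pullbackCongr (rfl : b.g = a.g)).inv.app E ≫ b.s ≫ i.hom = b.s ≫ i.hom by
      simp [Scheme.Modules.pullbackCongr]]
    refine hom_ext_gval hE c.hU hle fun m => ?_
    have h2 : ∀ n, gval (b.s ≫ i.hom) hle n = φ.app ⊤ (gval b.s hle n) := fun n =>
      app_res φ hle _
    rw [h2, hval (toSpec χ) a.g hg hle m, map_sum, ← hco m]
    refine Finset.sum_congr rfl fun k _ => ?_
    rw [Scheme.Modules.Hom.app_smul]
    refine congrArg₂ (· • ·) ?_ (hφ k)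
    refine (happ χ _).trans ?_
    change ev (MvPolynomial.X (m, k)) = _
    rw [MvPolynomial.eval₂Hom_X']
  · obtain ⟨χ', rfl⟩ := exists_toSpec h'
    obtain ⟨hg, i, hi⟩ := hh'
    change toSpec χ' ≫ (univPair c hE).g = a.g at hg
    refine congrArg toSpec (CommRingCat.hom_ext (Ideal.Quotient.ringHom_ext (MvPolynomial.ringHom_ext
      (fun r => ?_) fun mk => ?_)))
    · change χ'.hom ((chartConst c).hom r) = ev (MvPolynomial.C r)
      rw [MvPolynomial.eval₂Hom_C]
      have h1 : chartConst c ≫ χ' = a.g.appLE c.U ⊤ hle := by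
        have h2 : toSpec (chartConst c ≫ χ') = toSpec (a.g.appLE c.U ⊤ hle) := by
          refine (cancel_mono c.hU.fromSpec).1 ?_
          rw [← toSpec_map, Category.assoc, show Spec.map (chartConst c) ≫ c.hU.fromSpec = _ from
            (univPair_g c hE).symm, hg]
          exact eq_toSpec_appLE a.g c.hU hle
        exact toSpec_inj h2
      exact congr($h1 r)
    · obtain ⟨m, k⟩ := mk
      change χ'.hom (Ideal.Quotient.mk _ (MvPolynomial.X (m, k))) = ev (MvPolynomial.X (m, k))
      rw [MvPolynomial.eval₂Hom_X']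
      have h3 : ∀ n, i.hom.app ⊤ (gval ((univPair c hE).pull (toSpec χ') a.g hg).s hle n) = gval a.s hle n := by
        intro n
        have h4 : ∀ (g' : T ⟶ X) (hg' : toSpec χ' ≫ (univPair c hE).g = g') (h : g' = a.g)
            (hi : (Scheme.Modules.pullbackCongr h).inv.app E ≫ ((univPair c hE).pull (toSpec χ') g' hg').s ≫ i.hom
              = a.s), i.hom.app ⊤ (gval ((univPair c hE).pull (toSpec χ') a.g hg).s hle n) = gval a.s hle n := by
          rintro _ hg' rfl hi
          simp only [Scheme.Modules.pullbackCongr, eqToIso.inv, eqToHom_app, eqToHom_refl, Category.id_comp] at hi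
          conv_rhs => rw [← hi]
          simp [gval]
          exact (app_res i.hom hle _).symm
        exact h4 _ rfl _ hi
      rw [← happ χ' _]
      refine (congrFun (co_unique m (fun k => (toSpec χ').appTop.hom (coordFn c m k)) ?_) k).symm
      refine Eq.trans ?_ (h3 m)
      rw [hval (toSpec χ') a.g hg hle m, map_sum]
      refine Finset.sum_congr rfl fun l _ => ?_
      rw [Scheme.Modules.Hom.app_smul, h3]

end Groth.Agent.GrassQ

end
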