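import Groth.Agent.GrassQ.Props
import Groth.Agent.GrassBC.Basic

/-!
Flag schemes of a locally free module as towers of Grassmannians.
-/

set_option autoImplicit false
set_option backward.isDefEq.respectTransparency false
set_option backward.isDefEq.respectTransparency.types false
set_option linter.style.haveILetI false
set_option maxHeartbeats 1000000

universe u

open CategoryTheory CategoryTheory.Limits AlgebraicGeometry

noncomputable section

namespace Groth.Agent.GrassQ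

variable {X F G : Scheme.{u}} {π : F ⟶ X} {E : X.Modules}

theorem epi_quotBC {T : Scheme.{u}} {h : T ⟶ F} {g : T ⟶ X} (hg : h ≫ π = g) {M : F.Modules}
    (c : (Scheme.Modules.pullback π).obj E ⟶ M) [Epi c] : Epi (Grass.quotBC hg c) := by
  haveI := Grass.epi_pullback_map h c
  dsimp only [Grass.quotBC]
  infer_instance

theorem isFinLocFreeOfRank_pullback {T : Scheme.{u}} (h : T ⟶ F) {M : F.Modules} {r : ℕ}
    (hM : FlatMod.IsFinLocFreeOfRank r M) :
    FlatMod.IsFinLocFreeOfRank r ((Scheme.Modules.pullback h).obj M) := fun x => by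
  obtain ⟨U, hU, ⟨i⟩⟩ := hM (h x)
  exact ⟨h ⁻¹ᵁ U, hU, ModDesc.exists_free_pullback h i⟩

theorem isFinLocFreeOfRank_of_iso {M M' : F.Modules} {r : ℕ} (i : M ≅ M') (hM : FlatMod.IsFinLocFreeOfRank r M) :
    FlatMod.IsFinLocFreeOfRank r M' := fun x => by
  obtain ⟨U, hU, ⟨j⟩⟩ := hM x
  exact ⟨U, hU, ⟨(Scheme.Modules.restrictFunctor U.ι).mapIso i.symm ≪≫ j⟩⟩

/-- A morphism with compatible isomorphisms, composed with one, is the classifying morphism. -/
theorem comp_eq_lift {k : ℕ} {n : Fin k → ℕ} {Q : Fin k → F.Modules}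
    {q : ∀ i, (Scheme.Modules.pullback π).obj E ⟶ Q i} (hF : Grass.IsFlag π E n Q q)
    {π' : G ⟶ X} {Q' : Fin k → G.Modules} {q' : ∀ i, (Scheme.Modules.pullback π').obj E ⟶ Q' i}
    {p : G ⟶ F} (hp : p ≫ π = π') (ι : ∀ i, (Scheme.Modules.pullback p).obj (Q i) ≅ Q' i)
    (hι : ∀ i, Grass.quotBC hp (q i) ≫ (ι i).hom = q' i)
    {T : Scheme.{u}} {g : T ⟶ X} {h : T ⟶ G} (hh : h ≫ π' = g) {L : Fin k → T.Modules}
    (hL : ∀ i, FlatMod.IsFinLocFreeOfRank (n i) (L i)) (s : ∀ i, (Scheme.Modules.pullback g).obj E ⟶ L i)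
    (hs : ∀ i, Epi (s i)) (hn : ∀ i j, i ≤ j → ∃ t : L i ⟶ L j, s i ≫ t = s j)
    (e : ∀ i, (Scheme.Modules.pullback h).obj (Q' i) ≅ L i)
    (he : ∀ i, Grass.quotBC hh (q' i) ≫ (e i).hom = s i) :
    h ≫ p = hF.lift g L hL s hs hn := by
  have hkπ : (h ≫ p) ≫ π = g := by rw [Category.assoc, hp, hh]
  refine hF.lift_unique g L hL s hs hn (h ≫ p) hkπ
    (fun i => (Scheme.Modules.pullbackComp h p).symm.app (Q i) ≪≫ (Scheme.Modules.pullback h).mapIso (ι i) ≪≫ e i)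
    fun i => ?_
  rw [← he i, ← hι i, GrassBC.quotBC_comp, ← GrassBC.quotBC_quotBC hp hh rfl hkπ (q i)]
  simp [Scheme.Modules.pullbackCongr]

/-- One more quotient. -/
theorem exists_snoc {k : ℕ} (Q : Fin k → G.Modules) (L : G.Modules) {A : G.Modules} (q : ∀ i, A ⟶ Q i) (l : A ⟶ L) :
    ∃ (Q₁ : Fin (k + 1) → G.Modules) (q₁ : ∀ i, A ⟶ Q₁ i) (ι : ∀ i, Q i ≅ Q₁ (Fin.castSucc i))
      (ν : L ≅ Q₁ (Fin.last k)),
      (∀ i, q i ≫ (ι i).hom = q₁ (Fin.castSucc i)) ∧ l ≫ ν.hom = q₁ (Fin.last k) := by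
  let W : Fin (k + 1) → Σ M : G.Modules, (A ⟶ M) :=
    Fin.lastCases ⟨L, l⟩ fun i => ⟨Q i, q i⟩
  have key : ∀ {M : G.Modules} (f : A ⟶ M) (w : Σ M : G.Modules, (A ⟶ M)), w = ⟨M, f⟩ →
      ∃ ι : M ≅ w.1, f ≫ ι.hom = w.2 := by
    rintro M f w rfl
    exact ⟨Iso.refl _, Category.comp_id _⟩
  choose ι hι using fun i => key (q i) (W (Fin.castSucc i)) (Fin.lastCases_castSucc ..)
  obtain ⟨ν, hν⟩ := key l (W (Fin.last k)) (Fin.lastCases_last ..)
  exact ⟨fun i => (W i).1, fun i => (W i).2, ι, ν, hι, hν⟩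

/-- A Grassmannian of a step over a flag scheme is a flag scheme with one more step. -/
theorem isFlag_snoc {k : ℕ} {n : Fin (k + 1) → ℕ} {Q : Fin k → F.Modules}
    {q : ∀ i, (Scheme.Modules.pullback π).obj E ⟶ Q i} (hF : Grass.IsFlag π E (fun i => n (Fin.castSucc i)) Q q)
    {M : F.Modules} (c : (Scheme.Modules.pullback π).obj E ⟶ M) [Epi c] (hc : ∀ i, ∃ t, q i ≫ t = c)
    (hsrc : ∀ (T : Scheme.{u}) (g : T ⟶ X) (h : T ⟶ F) (hg : h ≫ π = g) (L : T.Modules)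
      (s : (Scheme.Modules.pullback g).obj E ⟶ L),
      (∀ i, ∃ τ, Grass.quotBC hg (q i) ≫ τ = s) → ∃ τ, Grass.quotBC hg c ≫ τ = s)
    {p : G ⟶ F} {L₁ : G.Modules} {l : (Scheme.Modules.pullback p).obj M ⟶ L₁}
    (hG : Grass.IsGrass p M (n (Fin.last k)) L₁ l)
    {Q₁ : Fin (k + 1) → G.Modules} {q₁ : ∀ i, (Scheme.Modules.pullback (p ≫ π)).obj E ⟶ Q₁ i}
    (ι : ∀ i, (Scheme.Modules.pullback p).obj (Q i) ≅ Q₁ (Fin.castSucc i)) (ν : L₁ ≅ Q₁ (Fin.last k))
    (hι : ∀ i, Grass.quotBC (rfl : p ≫ π = p ≫ π) (q i) ≫ (ι i).hom = q₁ (Fin.castSucc i))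
    (hν : (Grass.quotBC (rfl : p ≫ π = p ≫ π) c ≫ l) ≫ ν.hom = q₁ (Fin.last k)) :
    Grass.IsFlag (p ≫ π) E n Q₁ q₁ := by
  refine ⟨?_, ?_, ?_, ?_⟩
  · refine Fin.lastCases ?_ fun i => ?_
    · exact isFinLocFreeOfRank_of_iso ν hG.rank
    · exact isFinLocFreeOfRank_of_iso (ι i) (isFinLocFreeOfRank_pullback p (hF.rank i))
  · refine Fin.lastCases ?_ fun i => ?_
    · rw [← hν]
      haveI := hG.epi
      haveI := epi_quotBC (rfl : p ≫ π = p ≫ π) c
      infer_instance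
    · rw [← hι i]
      haveI := hF.epi i
      haveI := epi_quotBC (rfl : p ≫ π = p ≫ π) (q i)
      infer_instance
  · intro i j hij
    induction j using Fin.lastCases with
    | last =>
      induction i using Fin.lastCases with
      | last => exact ⟨𝟙 _, Category.comp_id _⟩
      | cast i =>
        obtain ⟨t, ht⟩ := hc i
        refine ⟨(ι i).inv ≫ (Scheme.Modules.pullback p).map t ≫ l ≫ ν.hom, ?_⟩
        rw [← hι i, Category.assoc, Iso.hom_inv_id_assoc, ← Category.assoc, ← GrassBC.quotBC_comp, ht, ← hν,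
          Category.assoc]
        simp [Grass.quotBC]
    | cast j =>
      induction i using Fin.lastCases with
      | last => exact absurd hij (not_le.mpr (Fin.castSucc_lt_last j))
      | cast i =>
        obtain ⟨t, ht⟩ := hF.nested i j (Fin.castSucc_le_castSucc_iff.mp hij)
        refine ⟨(ι i).inv ≫ (Scheme.Modules.pullback p).map t ≫ (ι j).hom, ?_⟩
        rw [← hι i, Category.assoc, Iso.hom_inv_id_assoc, ← Category.assoc, ← GrassBC.quotBC_comp, ht, hι j]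
  · intro T g L hL s hs hn
    let L₀ : Fin k → T.Modules := fun i => L (Fin.castSucc i)
    have hn₀ : ∀ i j, i ≤ j → ∃ t : L₀ i ⟶ L₀ j, s (Fin.castSucc i) ≫ t = s (Fin.castSucc j) :=
      fun i j hij => hn _ _ (Fin.castSucc_le_castSucc_iff.mpr hij)
    let g₀ := hF.lift g L₀ (fun i => hL _) (fun i => s (Fin.castSucc i)) (fun i => hs _) hn₀
    have hg₀ : g₀ ≫ π = g := hF.lift_comp ..
    obtain ⟨τ, hτ⟩ := hsrc T g g₀ hg₀ (L (Fin.last k)) (s (Fin.last k)) fun i => by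
      obtain ⟨t, ht⟩ := hn (Fin.castSucc i) (Fin.last k) (Fin.le_last _)
      refine ⟨(hF.liftIso g L₀ (fun i => hL _) (fun i => s (Fin.castSucc i)) (fun i => hs _) hn₀ i).hom ≫ t, ?_⟩
      rw [← Category.assoc, hF.quotBC_liftIso, ht]
    haveI := hs (Fin.last k)
    haveI : Epi τ := epi_of_epi_fac hτ
    haveI := epi_quotBC hg₀ c
    refine ⟨hG.lift g₀ _ (hL _) τ inferInstance, ?_, ?_⟩
    · set h := hG.lift g₀ _ (hL _) τ inferInstance with hdef
      have hhp : h ≫ p = g₀ := hG.lift_comp ..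
      have hh : h ≫ p ≫ π = g := by rw [← Category.assoc, hhp, hg₀]
      refine ⟨hh, Fin.lastCases ?_ fun i => ?_, Fin.lastCases ?_ fun i => ?_⟩
      · exact (Scheme.Modules.pullback h).mapIso ν.symm ≪≫ hG.liftIso g₀ _ (hL _) τ inferInstance
      · exact (Scheme.Modules.pullback h).mapIso (ι i).symm ≪≫ (Scheme.Modules.pullbackComp h p).app (Q i) ≪≫
          (Scheme.Modules.pullbackCongr hhp).app (Q i) ≪≫
          hF.liftIso g L₀ (fun i => hL _) (fun i => s (Fin.castSucc i)) (fun i => hs _) hn₀ i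
      · simp only [Fin.lastCases_last]; rw [← hν, GrassBC.quotBC_comp, GrassBC.quotBC_comp]
        refine Eq.trans ?_ hτ
        rw [← GrassBC.quotBC_quotBC (rfl : p ≫ π = p ≫ π) hh hhp hg₀ c]
        conv_rhs => rw [← hG.quotBC_liftIso g₀ _ (hL _) τ inferInstance]
        simp [Grass.quotBC, Scheme.Modules.pullbackCongr]
        erw [Iso.hom_inv_id_app_assoc]
      · simp only [Fin.lastCases_castSucc]; rw [← hι i, GrassBC.quotBC_comp]
        refine Eq.trans ?_ (hF.quotBC_liftIso g L₀ (fun i => hL _) (fun i => s (Fin.castSucc i)) (fun i => hs _) hn₀ i)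
        conv_rhs => rw [← GrassBC.quotBC_quotBC (rfl : p ≫ π = p ≫ π) hh hhp hg₀ (q i)]
        simp
    · rintro h ⟨hh, e, he⟩
      have hhp : h ≫ p = g₀ := comp_eq_lift hF rfl ι hι hh (fun i => hL _) (fun i => s (Fin.castSucc i))
        (fun i => hs _) hn₀ (fun i => e (Fin.castSucc i)) (fun i => he _)
      refine hG.lift_unique g₀ _ (hL _) τ inferInstance h hhp
        ((Scheme.Modules.pullback h).mapIso ν ≪≫ e (Fin.last k)) ?_
      rw [← cancel_epi (Grass.quotBC hg₀ c), hτ, ← he (Fin.last k), ← hν,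
        ← GrassBC.quotBC_quotBC (rfl : p ≫ π = p ≫ π) hh hhp hg₀ c]
      simp [Grass.quotBC, Scheme.Modules.pullbackCongr]

theorem isIso_quotBC_id {T : Scheme.{u}} {h : T ⟶ F} {g : T ⟶ X} (hg : h ≫ π = g) :
    IsIso (Grass.quotBC hg (𝟙 ((Scheme.Modules.pullback π).obj E))) := by
  dsimp only [Grass.quotBC]
  infer_instance

section Tower

variable {N m : ℕ} {n : Fin m → ℕ}

/-- The relative dimension of a truncation. -/
def flagDim (N : ℕ) (n : Fin m → ℕ) (k : ℕ) : ℕ :=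
  ∑ i : Fin m, if k ≤ (i : ℕ) then n i * ((Fin.cons N n : Fin (m + 1) → ℕ) (Fin.castSucc i) - n i) else 0

theorem flagDim_eq_add (k : ℕ) (hk : k < m) :
    flagDim N n k = flagDim N n (k + 1) +
      n ⟨k, hk⟩ * ((Fin.cons N n : Fin (m + 1) → ℕ) (Fin.castSucc ⟨k, hk⟩) - n ⟨k, hk⟩) := by
  classical
  unfold flagDim
  rw [← Finset.add_sum_erase _ _ (Finset.mem_univ (⟨k, hk⟩ : Fin m)),
    ← Finset.add_sum_erase Finset.univ (fun i : Fin m => if k + 1 ≤ (i : ℕ) then _ else 0)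
      (Finset.mem_univ (⟨k, hk⟩ : Fin m))]
  simp only [le_refl, if_true, Nat.not_succ_le_self, if_false, zero_add]
  rw [add_comm]
  congr 1
  refine Finset.sum_congr rfl fun i hi => ?_
  have : (i : ℕ) ≠ k := fun h => (Finset.mem_erase.1 hi).1 (Fin.ext h)
  exact if_congr (by omega) rfl rfl

variable (P : ∀ {A B : Scheme.{u}}, ℕ → (A ⟶ B) → Prop)

/-- A property of the bundle maps of Grassmannians passes to forgetful maps of flag schemes. -/
theorem flag_lift_induction (hiso : ∀ {A B : Scheme.{u}} (f : A ⟶ B) [IsIso f], P 0 f)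
    (hcomp : ∀ {A B C : Scheme.{u}} {a b : ℕ} (f : A ⟶ B) (g : B ⟶ C), P a f → P b g → P (a + b) (f ≫ g))
    (hgrass : ∀ {Y G : Scheme.{u}} {M : Y.Modules} {N' r : ℕ} (A : Pair M r G), IsUniv A →
      FlatMod.IsFinLocFreeOfRank N' M → r ≤ N' → P (r * (N' - r)) A.g)
    {X F : Scheme.{u}} {π : F ⟶ X} {E : X.Modules} (hE : FlatMod.IsFinLocFreeOfRank N E)
    (hn : StrictAnti n) (hN : ∀ i, n i < N)
    {Q : Fin m → F.Modules} {q : ∀ i, (Scheme.Modules.pullback π).obj E ⟶ Q i} (hF : Grass.IsFlag π E n Q q) :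
    ∀ (d k : ℕ) (hk : k ≤ m), d + k = m → ∀ (F₀ : Scheme.{u}) (π₀ : F₀ ⟶ X) (Q₀ : Fin k → F₀.Modules)
      (q₀ : ∀ i, (Scheme.Modules.pullback π₀).obj E ⟶ Q₀ i)
      (hF₀ : Grass.IsFlag π₀ E (fun i => n (Fin.castLE hk i)) Q₀ q₀),
      P (flagDim N n k)
        (hF₀.lift π (fun i => Q (Fin.castLE hk i)) (fun i => hF.rank (Fin.castLE hk i))
          (fun i => q (Fin.castLE hk i)) (fun i => hF.epi (Fin.castLE hk i))
          (fun i j hij => hF.nested (Fin.castLE hk i) (Fin.castLE hk j) ((Fin.castLE_le_castLE_iff hk).mpr hij))) := by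
  intro d
  induction d with
  | zero =>
    intro k hk hkm F₀ π₀ Q₀ q₀ hF₀
    obtain rfl : k = m := by omega
    have h0 : flagDim N n k = 0 := Finset.sum_eq_zero fun i _ => if_neg (by omega)
    rw [h0]
    set f := hF₀.lift π (fun i => Q (Fin.castLE hk i)) (fun i => hF.rank (Fin.castLE hk i))
      (fun i => q (Fin.castLE hk i)) (fun i => hF.epi (Fin.castLE hk i))
      (fun i j hij => hF.nested (Fin.castLE hk i) (Fin.castLE hk j) ((Fin.castLE_le_castLE_iff hk).mpr hij))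
    let f' := hF.lift π₀ Q₀ hF₀.rank q₀ hF₀.epi hF₀.nested
    have hff' : f ≫ f' = 𝟙 F := by
      refine (comp_eq_lift hF (hF.lift_comp _ _ _ _ _ _) (hF.liftIso π₀ Q₀ hF₀.rank q₀ hF₀.epi hF₀.nested)
        (hF.quotBC_liftIso π₀ Q₀ hF₀.rank q₀ hF₀.epi hF₀.nested) (hF₀.lift_comp _ _ _ _ _ _) hF.rank q hF.epi
        hF.nested (hF₀.liftIso π _ _ _ _ _) (hF₀.quotBC_liftIso π _ _ _ _ _)).trans ?_
      exact (hF.lift_unique π Q hF.rank q hF.epi hF.nested (𝟙 F) (Category.id_comp π)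
        (fun i => (Scheme.Modules.pullbackId F).app (Q i)) (fun i => GrassBC.quotBC_id (q i))).symm
    have hf'f : f' ≫ f = 𝟙 F₀ := by
      refine (comp_eq_lift hF₀ (hF₀.lift_comp _ _ _ _ _ _) (hF₀.liftIso π _ _ _ _ _)
        (hF₀.quotBC_liftIso π _ _ _ _ _) (hF.lift_comp _ _ _ _ _ _) hF₀.rank q₀ hF₀.epi hF₀.nested
        (hF.liftIso π₀ Q₀ hF₀.rank q₀ hF₀.epi hF₀.nested) (hF.quotBC_liftIso π₀ Q₀ hF₀.rank q₀ hF₀.epi hF₀.nested)).trans ?_
      exact (hF₀.lift_unique π₀ Q₀ hF₀.rank q₀ hF₀.epi hF₀.nested (𝟙 F₀) (Category.id_comp π₀)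
        (fun i => (Scheme.Modules.pullbackId F₀).app (Q₀ i)) (fun i => GrassBC.quotBC_id (q₀ i))).symm
    haveI : IsIso f := ⟨f', hff', hf'f⟩
    exact hiso f
  | succ d ih =>
    intro k hk hkm F₀ π₀ Q₀ q₀ hF₀
    have hk1 : k + 1 ≤ m := by omega
    -- the module whose quotients give the next step
    obtain ⟨M, c, hce, hc, hsrc, hrank⟩ : ∃ (M : F₀.Modules) (c : (Scheme.Modules.pullback π₀).obj E ⟶ M),
        Epi c ∧ (∀ i, ∃ t, q₀ i ≫ t = c) ∧
        (∀ (T : Scheme.{u}) (g : T ⟶ X) (h : T ⟶ F₀) (hg : h ≫ π₀ = g) (L : T.Modules)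
          (s : (Scheme.Modules.pullback g).obj E ⟶ L),
          (∀ i, ∃ τ, Grass.quotBC hg (q₀ i) ≫ τ = s) → ∃ τ, Grass.quotBC hg c ≫ τ = s) ∧
        FlatMod.IsFinLocFreeOfRank ((Fin.cons N n : Fin (m + 1) → ℕ) (Fin.castSucc ⟨k, by omega⟩)) M := by
      cases k with
      | zero =>
        refine ⟨_, 𝟙 _, inferInstance, fun i => i.elim0, fun T g h hg L s _ => ?_, ?_⟩
        · haveI := isIso_quotBC_id (E := E) hg
          exact ⟨inv (Grass.quotBC hg (𝟙 _)) ≫ s, IsIso.hom_inv_id_assoc _ _⟩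
        · exact isFinLocFreeOfRank_pullback π₀ hE
      | succ j =>
        refine ⟨Q₀ (Fin.last j), q₀ (Fin.last j), hF₀.epi _, fun i => hF₀.nested i _ (Fin.le_last _),
          fun T g h hg L s hs => hs (Fin.last j), ?_⟩
        exact hF₀.rank (Fin.last j)
    obtain ⟨G, p, L₁, l, hG⟩ := exists_isGrass (e := n ⟨k, by omega⟩) (isQCoh_of_rank hrank)
    obtain ⟨Q₁, q₁, ι, ν, hι, hν⟩ := exists_snoc (fun i => (Scheme.Modules.pullback p).obj (Q₀ i)) L₁
      (fun i => Grass.quotBC (rfl : p ≫ π₀ = p ≫ π₀) (q₀ i)) (Grass.quotBC (rfl : p ≫ π₀ = p ≫ π₀) c ≫ l)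
    haveI := hce
    have hF₁ : Grass.IsFlag (p ≫ π₀) E (fun i => n (Fin.castLE hk1 i)) Q₁ q₁ :=
      isFlag_snoc (n := fun i => n (Fin.castLE hk1 i)) hF₀ c hc hsrc hG ι ν hι hν
    have hle : n ⟨k, by omega⟩ ≤ (Fin.cons N n : Fin (m + 1) → ℕ) (Fin.castSucc ⟨k, by omega⟩) := by
      cases k with
      | zero => exact (hN _).le
      | succ j => exact (hn (show (⟨j, by omega⟩ : Fin m) < ⟨j + 1, by omega⟩ from Nat.lt_succ_self j)).le
    have h1 := ih (k + 1) hk1 (by omega) G (p ≫ π₀) Q₁ q₁ hF₁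
    have h2 := hgrass ⟨p, L₁, hG.rank, l, hG.epi⟩ (isUniv_of_isGrass hG) hrank hle
    rw [flagDim_eq_add k (by omega)]
    have hfac := comp_eq_lift hF₀ rfl ι hι (hF₁.lift_comp _ _ _ _ _ _) (fun i => hF.rank (Fin.castLE hk i))
      (fun i => q (Fin.castLE hk i)) (fun i => hF.epi (Fin.castLE hk i))
      (fun i j hij => hF.nested (Fin.castLE hk i) (Fin.castLE hk j) ((Fin.castLE_le_castLE_iff hk).mpr hij))
      (fun i => hF₁.liftIso π (fun i => Q (Fin.castLE hk1 i)) (fun i => hF.rank (Fin.castLE hk1 i))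
        (fun i => q (Fin.castLE hk1 i)) (fun i => hF.epi (Fin.castLE hk1 i))
        (fun i j hij => hF.nested (Fin.castLE hk1 i) (Fin.castLE hk1 j) ((Fin.castLE_le_castLE_iff hk1).mpr hij))
        (Fin.castSucc i))
      (fun i => hF₁.quotBC_liftIso π _ _ _ _ _ (Fin.castSucc i))
    rw [← hfac]
    exact hcomp _ _ h1 h2

end Tower

/-- The base is the flag scheme of the empty type. -/
theorem isFlag_zero {n : Fin 0 → ℕ} (Q : Fin 0 → X.Modules)
    (q : ∀ i, (Scheme.Modules.pullback (𝟙 X)).obj E ⟶ Q i) : Grass.IsFlag (𝟙 X) E n Q q :=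
  ⟨fun i => i.elim0, fun i => i.elim0, fun i => i.elim0, fun T g L hL s hs hn =>
    ⟨g, ⟨Category.comp_id g, fun i => i.elim0, fun i => i.elim0⟩, fun h ⟨hh, _⟩ => (Category.comp_id h).symm.trans hh⟩⟩

end Groth.Agent.GrassQ

end
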