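import Groth.Agent.GrassQ.Pt
import Groth.Agent.QC.SubSheaf
import Mathlib.AlgebraicGeometry.Sites.BigZariski

/-!
The Grassmannian functor is a Zariski sheaf.
-/

set_option autoImplicit false
set_option backward.isDefEq.respectTransparency false
set_option backward.isDefEq.respectTransparency.types false
set_option linter.style.haveILetI false

universe u

open CategoryTheory CategoryTheory.Limits AlgebraicGeometry TopologicalSpace Opposite
open Groth.Agent.QC (res app_res section_eq_of_locally res_res)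

noncomputable section

namespace Groth.Agent.GrassQ

variable {X : Scheme.{u}} {E : X.Modules} {e : ℕ} {T U P : Scheme.{u}}

theorem exists_nhd_of_pullback_open (j : U ⟶ T) [IsOpenImmersion j] (L : T.Modules)
    (h : FlatMod.IsFinLocFreeOfRank e ((Scheme.Modules.pullback j).obj L)) (x : U) :
    ∃ V : T.Opens, j x ∈ V ∧ Nonempty (L.restrict V.ι ≅ FlatMod.freeMod V.toScheme e) := by
  obtain ⟨W, hW, ⟨i⟩⟩ := h x
  refine ⟨(W.ι ≫ j).opensRange, ⟨⟨x, hW⟩, rfl⟩, ⟨(Scheme.Modules.restrictFunctorIsoPullback _).app L ≪≫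
    (Scheme.Modules.pullbackCongr (W.ι ≫ j).isoOpensRange_inv_comp.symm).app L ≪≫
    ((Scheme.Modules.pullbackComp (W.ι ≫ j).isoOpensRange.inv (W.ι ≫ j)).app L).symm ≪≫
    (Scheme.Modules.pullback (W.ι ≫ j).isoOpensRange.inv).mapIso
      (((Scheme.Modules.pullbackComp W.ι j).app L).symm ≪≫
        ((Scheme.Modules.restrictFunctorIsoPullback W.ι).app _).symm ≪≫ i) ≪≫
    DerPerf.pullFreeIso (W.ι ≫ j).isoOpensRange.inv e⟩⟩

theorem bijective_pullSect_open (j : U ⟶ T) [IsOpenImmersion j] (M : T.Modules) (W : T.Opens)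
    (hW : W ≤ j ''ᵁ j ⁻¹ᵁ W) : Function.Bijective (OmegaSh.pullSect j M W) := by
  rw [show (⇑(OmegaSh.pullSect j M W)) = fun m => ((Scheme.Modules.restrictFunctorIsoPullback j).hom.app M).app
    (j ⁻¹ᵁ W) (res M (j.image_preimage_le W) m) from funext fun m => (QC.restrictIso_hom_pullSect j M W m).symm]
  refine (ConcreteCategory.bijective_of_isIso
    (((Scheme.Modules.restrictFunctorIsoPullback j).hom.app M).app (j ⁻¹ᵁ W))).comp ⟨fun a b hab => ?_, fun b => ?_⟩
  · have h' := congrArg (res M hW) hab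
    rwa [res_res, res_res, Groth.Agent.QC.res_self, Groth.Agent.QC.res_self] at h'
  · exact ⟨res M hW b, (res_res _ _ _ _).trans (Groth.Agent.QC.res_self _ _ _)⟩

variable {g : T ⟶ X}

/-- A quotient over a piece as a map out of the restriction of the inverse image of `E`. -/
def tt (j : U ⟶ T) (a : Pair E e U) (ha : j ≫ g = a.g) :
    (Scheme.Modules.pullback j).obj ((Scheme.Modules.pullback g).obj E) ⟶ a.L :=
  (Scheme.Modules.pullbackComp j g).hom.app E ≫ (Scheme.Modules.pullbackCongr ha).hom.app E ≫ a.s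

theorem s_eq_tt (j : U ⟶ T) (a : Pair E e U) (ha : j ≫ g = a.g) :
    Grass.quotBC ha (𝟙 ((Scheme.Modules.pullback g).obj E)) ≫ tt j a ha = a.s := by
  simp [Grass.quotBC, tt]

/-- The value of a quotient over a piece on a section of the inverse image of `E`. -/
def val (j : U ⟶ T) (a : Pair E e U) (ha : j ≫ g = a.g) {V : T.Opens}
    (x : Γ((Scheme.Modules.pullback g).obj E, V)) : Γ(a.L, j ⁻¹ᵁ V) :=
  (tt j a ha).app (j ⁻¹ᵁ V) (OmegaSh.pullSect j _ V x)

theorem val_zero (j : U ⟶ T) (a : Pair E e U) (ha : j ≫ g = a.g) (V : T.Opens) :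
    val j a ha (0 : Γ((Scheme.Modules.pullback g).obj E, V)) = 0 := by
  simp only [val, map_zero]

theorem val_res (j : U ⟶ T) (a : Pair E e U) (ha : j ≫ g = a.g) {V V' : T.Opens} (h : V' ≤ V)
    (x : Γ((Scheme.Modules.pullback g).obj E, V)) :
    val j a ha (res _ h x) = res a.L (j.preimage_mono h) (val j a ha x) := by
  rw [val, PBundle.pullSect_res, val, ← app_res]

theorem tt_pull (j : U ⟶ T) (a : Pair E e U) (ha : j ≫ g = a.g) (p : P ⟶ U) {g' : P ⟶ X} (hg : p ≫ a.g = g')
    (hn : (p ≫ j) ≫ g = g') :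
    tt (p ≫ j) (a.pull p g' hg) hn =
      (Scheme.Modules.pullbackComp p j).inv.app _ ≫ (Scheme.Modules.pullback p).map (tt j a ha) := by
  haveI : IsIso (Grass.quotBC hn (𝟙 ((Scheme.Modules.pullback g).obj E))) := by
    dsimp only [Grass.quotBC]
    infer_instance
  refine (cancel_epi (Grass.quotBC hn (𝟙 ((Scheme.Modules.pullback g).obj E)))).1
    ((s_eq_tt (p ≫ j) (a.pull p g' hg) hn).trans ?_)
  rw [GrassBC.quotBC_trans ha hg hn, s_eq_tt]
  rfl

theorem val_pull_eq_zero_iff (j : U ⟶ T) (a : Pair E e U) (ha : j ≫ g = a.g) (p : P ⟶ U) {g' : P ⟶ X}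
    (hg : p ≫ a.g = g') {n : P ⟶ T} (hpn : p ≫ j = n) (hn : n ≫ g = g') {V : T.Opens}
    (x : Γ((Scheme.Modules.pullback g).obj E, V)) :
    val n (a.pull p g' hg) hn x = 0 ↔ OmegaSh.pullSect p a.L (j ⁻¹ᵁ V) (val j a ha x) = 0 := by
  subst hpn
  have h : val (p ≫ j) (a.pull p g' hg) hn x = OmegaSh.pullSect p a.L (j ⁻¹ᵁ V) (val j a ha x) := by
    rw [val, tt_pull j a ha p hg hn, ← QC.pullbackComp_hom_pullSect p j _ V x]
    have h1 : ∀ y, ((Scheme.Modules.pullbackComp p j).inv.app ((Scheme.Modules.pullback g).obj E)).app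
        (p ⁻¹ᵁ (j ⁻¹ᵁ V)) (((Scheme.Modules.pullbackComp p j).hom.app _).app (p ⁻¹ᵁ (j ⁻¹ᵁ V)) y) = y := fun y =>
      congr(($((Scheme.Modules.pullbackComp p j).hom_inv_id_app _)).app (p ⁻¹ᵁ (j ⁻¹ᵁ V)) y)
    exact (congrArg (((Scheme.Modules.pullback p).map (tt j a ha)).app (p ⁻¹ᵁ (j ⁻¹ᵁ V))) (h1 _)).trans
      (QC.app_pullSect p (tt j a ha) (j ⁻¹ᵁ V) _)
  rw [h]

theorem val_eq_zero_of_rel (j : U ⟶ T) {a b : Pair E e U} (ha : j ≫ g = a.g) (hb : j ≫ g = b.g) (h : Rel a b)
    {V : T.Opens} {x : Γ((Scheme.Modules.pullback g).obj E, V)} (hx : val j a ha x = 0) : val j b hb x = 0 := by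
  obtain ⟨g', L', r', s', hs'⟩ := b
  obtain ⟨gb, i, hi⟩ := h
  dsimp only at gb hi hb i
  subst gb
  simp [Scheme.Modules.pullbackCongr] at hi
  subst hi
  change i.hom.app _ (val j a ha x) = 0
  rw [hx, map_zero]

theorem rel_of_val (j : U ⟶ T) [IsOpenImmersion j] {a b : Pair E e U} (ha : j ≫ g = a.g) (hb : j ≫ g = b.g)
    (h : ∀ {V : T.Opens}, V ≤ j.opensRange → ∀ x : Γ((Scheme.Modules.pullback g).obj E, V),
      val j a ha x = 0 ↔ val j b hb x = 0) : Rel a b := by
  have hk : ∀ (W : U.Opens) (y : Γ((Scheme.Modules.pullback j).obj ((Scheme.Modules.pullback g).obj E), W)),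
      (tt j a ha).app W y = 0 ↔ (tt j b hb).app W y = 0 := by
    intro W
    have : ∀ (W' : U.Opens), j ⁻¹ᵁ (j ''ᵁ W) = W' →
        ∀ y : Γ((Scheme.Modules.pullback j).obj ((Scheme.Modules.pullback g).obj E), W'),
          (tt j a ha).app W' y = 0 ↔ (tt j b hb).app W' y = 0 := by
      rintro _ rfl y
      obtain ⟨x, rfl⟩ := (bijective_pullSect_open j _ (j ''ᵁ W) (by rw [j.preimage_image_eq])).2 y
      exact h (j.image_le_opensRange W) x
    exact this W (j.preimage_image_eq W)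
  have hep : ∀ (c : Pair E e U) (hc : j ≫ g = c.g), Epi (tt j c hc) := fun c hc => by
    dsimp only [tt]
    infer_instance
  haveI := hep a ha
  haveI := hep b hb
  obtain ⟨i, hi⟩ := exists_iso_of_app_eq_zero_iff _ _ hk
  have hab : a.g = b.g := ha.symm.trans hb
  refine ⟨hab, i, ?_⟩
  rw [← s_eq_tt j a ha, ← s_eq_tt j b hb, Category.assoc, hi, ← Category.assoc]
  congr 1
  simp [Grass.quotBC, Scheme.Modules.pullbackCongr]

theorem val_pull_self (A : Pair E e T) (j : U ⟶ T) {g' : U ⟶ X} (hg : j ≫ A.g = g') {V : T.Opens}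
    (x : Γ((Scheme.Modules.pullback A.g).obj E, V)) :
    val (g := A.g) j (A.pull j g' hg) hg x = OmegaSh.pullSect j A.L V (A.s.app V x) := by
  have h : tt (g := A.g) j (A.pull j g' hg) hg = (Scheme.Modules.pullback j).map A.s := by
    subst hg
    simp [tt, Pair.pull, Grass.quotBC, Scheme.Modules.pullbackCongr]
  rw [val, h]
  exact QC.app_pullSect j A.s V x

theorem exists_glue {ι : Type u} {U : ι → Scheme.{u}} (j : ∀ i, U i ⟶ T) [∀ i, IsOpenImmersion (j i)]
    (hcov : ∀ t : T, ∃ i, t ∈ Set.range (j i)) (a : ∀ i, Pair E e (U i))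
    (hz : ∀ (i k : ι) {W : Scheme.{u}} (p : W ⟶ U i) (q : W ⟶ U k),
      p ≫ j i = q ≫ j k → Rel ((a i).pull p _ rfl) ((a k).pull q _ rfl)) :
    ∃ A : Pair E e T, ∀ i, Rel (A.pull (j i) _ rfl) (a i) := by
  classical
  let 𝒰 : T.OpenCover := Scheme.Cover.mkOfCovers ι U j (fun t => hcov t)
  have hg0 : ∀ i k : ι, pullback.fst (j i) (j k) ≫ (a i).g = pullback.snd _ _ ≫ (a k).g := fun i k =>
    (hz i k _ _ pullback.condition).1
  let g : T ⟶ X := 𝒰.glueMorphisms (fun i => (a i).g) hg0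
  have hjg : ∀ i, j i ≫ g = (a i).g := fun i => 𝒰.ι_glueMorphisms _ hg0 i
  let F := (Scheme.Modules.pullback g).obj E
  have hloc : ∀ (i : ι) {V : T.Opens} (x : Γ(F, V)),
      (∀ t ∈ V, ∃ (W : T.Opens) (h : W ≤ V), t ∈ W ∧ val (j i) (a i) (hjg i) (res F h x) = 0) →
      val (j i) (a i) (hjg i) x = 0 := by
    intro i V x hx
    refine section_eq_of_locally fun u hu => ?_
    obtain ⟨W, h, hW, hW0⟩ := hx (j i u) hu
    refine ⟨j i ⁻¹ᵁ W, (j i).preimage_mono h, hW, ?_⟩
    rw [← val_res (V' := W) (h := h), hW0, map_zero]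
  -- sections killed over one piece are killed over the others
  have hcompat : ∀ (i k : ι) {V : T.Opens}, V ≤ (j k).opensRange → ∀ x : Γ(F, V),
      val (j k) (a k) (hjg k) x = 0 → val (j i) (a i) (hjg i) x = 0 := by
    intro i k V hV x hx
    let p := pullback.fst (j i) (j k)
    let q := pullback.snd (j i) (j k)
    let n := p ≫ j i
    have hn : q ≫ j k = n := pullback.condition.symm
    have hgi : p ≫ (a i).g = n ≫ g := by simp only [n, Category.assoc, hjg]
    have hgk : q ≫ (a k).g = n ≫ g := by rw [← hn, Category.assoc, hjg]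
    have hrel : Rel ((a k).pull q _ hgk) ((a i).pull p _ hgi) :=
      ((pull_congr (Rel.refl (a k)) q hgk rfl).trans (hz i k p q pullback.condition).symm).trans
        (pull_congr (Rel.refl (a i)) p rfl hgi)
    have h1 : val n ((a k).pull q _ hgk) rfl x = 0 := by
      rw [val_pull_eq_zero_iff (j k) (a k) (hjg k) q hgk hn rfl x, hx, map_zero]
    have h2 := val_eq_zero_of_rel n rfl rfl hrel h1
    rw [val_pull_eq_zero_iff (j i) (a i) (hjg i) p hgi rfl rfl x] at h2
    refine (bijective_pullSect_open p (a i).L _ ?_).1 (h2.trans (map_zero _).symm)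
    intro u hu
    obtain ⟨v, hv⟩ := hV hu
    obtain ⟨w, hw, -⟩ := Scheme.Pullback.exists_preimage_pullback (f := j i) (g := j k) u v hv.symm
    exact ⟨w, show p w ∈ j i ⁻¹ᵁ V by rw [show p w = u from hw]; exact hu, hw⟩
  -- the glued kernel
  let K : QC.Sub F :=
    { obj := fun V =>
        { carrier := {x | ∀ i, val (j i) (a i) (hjg i) x = 0}
          add_mem' := fun {x y} hx hy i => by
            refine Eq.trans ?_ ((congrArg₂ (· + ·) (hx i) (hy i)).trans (add_zero _))
            refine Eq.trans (congrArg ((tt (j i) (a i) (hjg i)).app _) ((OmegaSh.pullSect (j i) F _).hom.map_add x y)) ?_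
            exact map_add _ _ _
          zero_mem' := fun i => val_zero _ _ _ _
          smul_mem' := fun r x hx i => by
            rw [val, OmegaSh.pullSect_smul, Scheme.Modules.Hom.app_smul]
            exact (congrArg (_ • ·) (hx i)).trans (smul_zero _) }
      res_mem := fun {O' O} h {x} hx i => by rw [val_res, hx i, map_zero]
      local' := fun x hx i => hloc i x fun t ht => by
        obtain ⟨W, h, hW, hW0⟩ := hx t ht
        exact ⟨W, h, hW, hW0 i⟩ }
  let L := cokernel K.ι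
  let π : F ⟶ L := cokernel.π K.ι
  have hπ : ∀ (V : T.Opens) (x : Γ(F, V)), π.app V x = 0 ↔ ∀ i, val (j i) (a i) (hjg i) x = 0 := by
    intro V x
    refine ⟨fun hx => ?_, fun hx => ?_⟩
    · obtain ⟨y, hy⟩ := PBundle.exists_kernel_sect π x hx
      let hK := Abelian.monoIsKernelOfCokernel (CokernelCofork.ofπ π (cokernel.condition K.ι))
        (cokernelIsCokernel K.ι)
      let l : kernel π ⟶ K.toModules := hK.lift (KernelFork.ofι (kernel.ι π) (kernel.condition π))
      have hl : l ≫ K.ι = kernel.ι π :=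
        hK.fac (KernelFork.ofι (kernel.ι π) (kernel.condition π)) WalkingParallelPair.zero
      refine (K.range_ι_app V x).1 ⟨l.app V y, ?_⟩
      rw [← hy]
      exact congr(($hl).app V y)
    · obtain ⟨y, rfl⟩ := (K.range_ι_app V x).2 hx
      exact congr(($(cokernel.condition K.ι)).app V y)
  have hkey : ∀ (k : ι) {V : T.Opens}, V ≤ (j k).opensRange → ∀ x : Γ(F, V),
      (OmegaSh.pullSect (j k) L V (π.app V x) = 0 ↔ val (j k) (a k) (hjg k) x = 0) := by
    intro k V hV x
    have hle : V ≤ j k ''ᵁ j k ⁻¹ᵁ V := fun t ht => by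
      obtain ⟨u, hu⟩ := hV ht
      exact ⟨u, show j k u ∈ V by rw [hu]; exact ht, hu⟩
    rw [(bijective_pullSect_open (j k) L V hle).1.eq_iff' (map_zero _), hπ]
    exact ⟨fun h => h k, fun h i => hcompat i k hV x h⟩
  have hiso : ∀ k, ∃ i : (Scheme.Modules.pullback (j k)).obj L ≅ (a k).L,
      (Scheme.Modules.pullback (j k)).map π ≫ i.hom = tt (j k) (a k) (hjg k) := by
    intro k
    haveI := Grass.epi_pullback_map (j k) π
    haveI : Epi (tt (j k) (a k) (hjg k)) := by dsimp only [tt]; infer_instance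
    refine exists_iso_of_app_eq_zero_iff _ _ fun W => ?_
    have : ∀ (W' : (U k).Opens), j k ⁻¹ᵁ (j k ''ᵁ W) = W' →
        ∀ y : Γ((Scheme.Modules.pullback (j k)).obj F, W'),
          ((Scheme.Modules.pullback (j k)).map π).app W' y = 0 ↔ (tt (j k) (a k) (hjg k)).app W' y = 0 := by
      rintro _ rfl y
      obtain ⟨x, rfl⟩ := (bijective_pullSect_open (j k) F (j k ''ᵁ W) (by rw [(j k).preimage_image_eq])).2 y
      rw [QC.app_pullSect]
      exact hkey k ((j k).image_le_opensRange W) x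
    exact this W ((j k).preimage_image_eq W)
  have hrank : FlatMod.IsFinLocFreeOfRank e L := by
    intro t
    obtain ⟨k, u, rfl⟩ := hcov t
    obtain ⟨i, -⟩ := hiso k
    refine exists_nhd_of_pullback_open (j k) L (fun v => ?_) u
    obtain ⟨W, hW, ⟨b⟩⟩ := (a k).rank v
    exact ⟨W, hW, ⟨(Scheme.Modules.restrictFunctor W.ι).mapIso i ≪≫ b⟩⟩
  refine ⟨⟨g, L, hrank, π, inferInstance⟩, fun k => ?_⟩
  refine rel_of_val (g := g) (j k) rfl (hjg k) fun {V} hV x => ?_
  rw [val_pull_self (⟨g, L, hrank, π, inferInstance⟩ : Pair E e T) (j k) rfl x]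
  exact hkey k hV x

theorem rel_of_cover {ι : Type u} {U : ι → Scheme.{u}} (j : ∀ i, U i ⟶ T) [∀ i, IsOpenImmersion (j i)]
    (hcov : ∀ t : T, ∃ i, t ∈ Set.range (j i)) (A B : Pair E e T)
    (h : ∀ i, Rel (A.pull (j i) _ rfl) (B.pull (j i) _ rfl)) : Rel A B := by
  let 𝒰 : T.OpenCover := Scheme.Cover.mkOfCovers ι U j (fun t => hcov t)
  have hg : A.g = B.g := 𝒰.hom_ext _ _ fun i => (h i).1
  obtain ⟨g, L, r, s, hs⟩ := A
  obtain ⟨g', L', r', s', hs'⟩ := B
  dsimp only at hg
  subst hg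
  refine rel_of_kernel_eq rfl fun V x => ?_
  rw [show (Scheme.Modules.pullbackCongr (rfl : g = g)).inv.app E ≫ s = s by simp [Scheme.Modules.pullbackCongr]]
  have key : ∀ {M : T.Modules} (m : Γ(M, V)),
      (∀ i, OmegaSh.pullSect (j i) M (V ⊓ (j i).opensRange) (res M inf_le_left m) = 0) → m = 0 := by
    intro M m hm
    refine section_eq_of_locally fun t ht => ?_
    obtain ⟨i, u, rfl⟩ := hcov t
    refine ⟨V ⊓ (j i).opensRange, inf_le_left, ⟨ht, u, rfl⟩, ?_⟩
    rw [map_zero]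
    refine (bijective_pullSect_open (j i) M _ ?_).1 ((hm i).trans (map_zero _).symm)
    rintro t' ⟨ht', v, rfl⟩
    exact ⟨v, ⟨ht', v, rfl⟩, rfl⟩
  refine ⟨fun hx => key _ fun i => ?_, fun hx => key _ fun i => ?_⟩
  · rw [app_res, ← val_pull_self ⟨g, L', r', s', hs'⟩ (j i) rfl]
    refine val_eq_zero_of_rel (g := g) (j i) rfl rfl (h i) ?_
    rw [val_pull_self ⟨g, L, r, s, hs⟩ (j i) rfl, ← app_res, hx, map_zero, map_zero]
  · rw [app_res, ← val_pull_self ⟨g, L, r, s, hs⟩ (j i) rfl]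
    refine val_eq_zero_of_rel (g := g) (j i) rfl rfl (h i).symm ?_
    rw [val_pull_self ⟨g, L', r', s', hs'⟩ (j i) rfl, ← app_res, hx, map_zero, map_zero]

theorem isSheaf : Presieve.IsSheaf Scheme.zariskiTopology (functor E e) := by
  refine (Precoverage.isSheaf_toGrothendieck_iff_of_isStableUnderBaseChange_of_small.{u} _).mpr fun T C => ?_
  rw [PreZeroHypercover.presieve₀, Presieve.isSheafFor_arrows_iff]
  intro x hx
  obtain ⟨hc, ho⟩ := (Scheme.ofArrows_mem_precoverage_iff _).mp C.mem₀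
  haveI : ∀ i, IsOpenImmersion (C.f i) := ho
  choose a ha using fun i => exists_elt_eq (x i)
  obtain ⟨A, hA⟩ := exists_glue C.f hc a fun i k W p q hpq => by
    have := hx i k W p q hpq
    rwa [← ha i, ← ha k, map_elt, map_elt, elt_eq_iff] at this
  refine ⟨A.elt, fun i => ?_, fun y hy => ?_⟩
  · rw [map_elt, ← ha i, elt_eq_iff]
    exact hA i
  · obtain ⟨B, rfl⟩ := exists_elt_eq y
    refine elt_eq_iff.2 (rel_of_cover C.f hc B A fun i => ?_)
    have := hy i
    rw [map_elt, ← ha i, elt_eq_iff] at this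
    exact this.trans (hA i).symm

end Groth.Agent.GrassQ

end
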