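import Groth.Agent.GrassQ.Wedge
import Groth.Agent.GrassQ.Glue
import Groth.Agent.PBReg.Basic

/-!
The Plücker embedding of a Grassmannian into the projective bundle of an exterior power.
-/

set_option autoImplicit false
set_option backward.isDefEq.respectTransparency false
set_option backward.isDefEq.respectTransparency.types false
set_option linter.style.haveILetI false
set_option maxHeartbeats 1000000

universe u

open CategoryTheory CategoryTheory.Limits AlgebraicGeometry TopologicalSpace Opposite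
open Groth.Agent.QC (res resO res_res res_self res_smul app_res)
open Groth.Agent.SGA6Ext (extSh Phi PhiCompat)
open Groth.Agent.HilbFin (wedge wedge_res)
open Groth.Agent.HilbRep (exists_toSpec)
open TMul (IsFrame IsGen)

noncomputable section

namespace Groth.Agent.GrassQ

variable {X : Scheme.{u}} {V L : X.Modules} {e : ℕ} (φ : Phi e V L) (hφ : PhiCompat φ)

/-- The index of a decomposable section. -/
def decIdx (c : Idx V e) : Idx L 1 := ⟨c.U, c.hU, fun _ => dec φ c.hU c.σ⟩

/-- Isomorphic quotients over the same morphism. -/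
theorem exists_iso_of_rel {T : Scheme.{u}} {g : T ⟶ X} {E : X.Modules} {r : ℕ} {L₁ L₂ : T.Modules}
    {r₁ : FlatMod.IsFinLocFreeOfRank r L₁} {r₂ : FlatMod.IsFinLocFreeOfRank r L₂}
    {s₁ : (Scheme.Modules.pullback g).obj E ⟶ L₁} {s₂ : (Scheme.Modules.pullback g).obj E ⟶ L₂}
    {h₁ : Epi s₁} {h₂ : Epi s₂} (h : Rel (⟨g, L₁, r₁, s₁, h₁⟩ : Pair E r T) ⟨g, L₂, r₂, s₂, h₂⟩) :
    ∃ j : L₁ ≅ L₂, s₁ ≫ j.hom = s₂ := by
  obtain ⟨hg, j, hj⟩ := h
  refine ⟨j, ?_⟩
  simpa [Scheme.Modules.pullbackCongr] using hj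

theorem isQCoh_of_rank {T : Scheme.{u}} {M : T.Modules} {r : ℕ} (h : FlatMod.IsFinLocFreeOfRank r M) :
    Coh.IsQCoh M :=
  LocFree.isQCoh_of_isFinLocFree fun x => by
    obtain ⟨W, hW, h⟩ := h x
    exact ⟨W, r, hW, h⟩

include hφ in
theorem exists_pluckerPair (hV : Coh.IsQCoh V) {T : Scheme.{u}} (A : Pair V e T) :
    ∃ B : Pair L 1 T, B.g = A.g ∧ (∀ c, locus (decIdx φ c) B = locus c A) ∧
      ∀ (c : Idx V e) (W : T.Opens) (hW : W ≤ locus c A) (k : Fin e) (m : Γ(V, c.U)) (co : Fin e → Γ(T, W)),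
        (∑ l, co l • res A.L (hW.trans (locus_le c A)) (PBundle.sec' A.g A.s c.U (c.σ l)) =
          res A.L (hW.trans (locus_le c A)) (PBundle.sec' A.g A.s c.U m)) →
        ∃ (hB : W ≤ B.g ⁻¹ᵁ c.U),
          gval B.s hB (dec φ c.hU (Function.update c.σ k m)) = co k • gval B.s hB (dec φ c.hU c.σ) := by
  classical
  obtain ⟨ℓ, hℓ⟩ := exists_plucker A φ hφ
  have hgen : ∀ c : Idx V e, IsGen (res (extSh A.L e) (locus_le c A) (wv A c.U c.σ)) := fun c => by
    rw [show res (extSh A.L e) (locus_le c A) (wv A c.U c.σ) =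
      wedge fun i => res A.L (locus_le c A) (PBundle.sec' A.g A.s c.U (c.σ i)) from wedge_res _ _]
    exact HilbFin.isGen_wedge (isFrame_frameLocus (b := fun i => PBundle.sec' A.g A.s c.U (c.σ i)))
  haveI : Epi ℓ := by
    refine InvGen.epi_of_locally ℓ fun W t x hx => ?_
    obtain ⟨c, hc⟩ := exists_mem_locus hV A x
    let W' := W ⊓ locus c A
    have hW' : W' ≤ locus c A := inf_le_right
    obtain ⟨a, ha⟩ := ((hgen c) W' hW').2 (res (extSh A.L e) inf_le_left t)
    refine ⟨W', inf_le_left, ⟨hx, hc⟩, a • res _ (hW'.trans (locus_le c A))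
      (OmegaSh.pullSect A.g L c.U (dec φ c.hU c.σ)), ?_⟩
    rw [Scheme.Modules.Hom.app_smul, ← app_res]
    refine Eq.trans ?_ ha
    rw [res_res]
    congr 2
    exact hℓ c.hU c.σ
  have hrank : FlatMod.IsFinLocFreeOfRank 1 (extSh A.L e) := W7Strat.isFinLocFreeOfRank_of_frames fun x => by
    obtain ⟨c, hc⟩ := exists_mem_locus hV A x
    exact ⟨locus c A, fun _ => res (extSh A.L e) (locus_le c A) (wv A c.U c.σ), hc, (isFrame_one_iff _).2 (hgen c)⟩
  refine ⟨⟨A.g, extSh A.L e, hrank, ℓ, inferInstance⟩, rfl, fun c => le_antisymm ?_ ?_, fun c W hW k m co hco => ?_⟩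
  · -- a generating wedge comes from a frame
    intro x hx
    have hxU : x ∈ A.g ⁻¹ᵁ c.U :=
      locus_le (decIdx φ c) (⟨A.g, extSh A.L e, hrank, ℓ, inferInstance⟩ : Pair L 1 T) hx
    obtain ⟨W, a, hWa, hxW, hWle, ha⟩ := exists_affine_frame A.rank (show x ∈ A.g ⁻¹ᵁ c.U ⊓
      locus (decIdx φ c) (⟨A.g, extSh A.L e, hrank, ℓ, inferInstance⟩ : Pair L 1 T) from ⟨hxU, hx⟩)
    have hWU : W ≤ A.g ⁻¹ᵁ c.U := hWle.trans inf_le_left
    have h1 := (isFrame_one_iff _).1 (isFrame_frameLocus (b := fun _ : Fin 1 =>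
      PBundle.sec' A.g ℓ c.U (dec φ c.hU c.σ)))
    have h2 : IsGen (res (extSh A.L e) hWU (PBundle.sec' A.g ℓ c.U (dec φ c.hU c.σ))) := by
      have h := h1.res (hWle.trans inf_le_right)
      rwa [res_res] at h
    rw [hℓ c.hU c.σ] at h2
    have h3 : IsFrame fun i => res A.L hWU (PBundle.sec' A.g A.s c.U (c.σ i)) := by
      refine HilbFin.isFrame_of_isGen_wedge (isQCoh_of_rank A.rank) ha hWa le_rfl _ ?_
      rw [← wedge_res]
      exact h2
    exact le_frameLocus hWU h3 hxW
  · refine le_frameLocus (locus_le c A) ((isFrame_one_iff _).2 ?_)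
    change IsGen (res (extSh A.L e) (locus_le c A) (PBundle.sec' A.g ℓ c.U (dec φ c.hU c.σ)))
    rw [hℓ c.hU c.σ]
    exact hgen c
  · refine ⟨hW.trans (locus_le c A), ?_⟩
    have hh := hW.trans (locus_le c A)
    let F : Fin e → Γ(A.L, W) := fun i => res A.L hh (PBundle.sec' A.g A.s c.U (c.σ i))
    have e1 : ∀ v : Fin e → Γ(V, c.U), gval ℓ hh (dec φ c.hU v) =
        wedge fun i => res A.L hh (PBundle.sec' A.g A.s c.U (v i)) := fun v => by
      rw [gval, hℓ c.hU v]
      exact wedge_res _ _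
    change gval ℓ hh _ = co k • gval ℓ hh _
    rw [e1, e1, show (fun i => res A.L hh (PBundle.sec' A.g A.s c.U (Function.update c.σ k m i))) =
      Function.update F k (res A.L hh (PBundle.sec' A.g A.s c.U m)) from
        funext fun i => Function.apply_update (fun _ z => res A.L hh (PBundle.sec' A.g A.s c.U z)) c.σ k m i,
      ← hco]
    have hadd : ∀ s : Finset (Fin e), wedge (Function.update F k (∑ l ∈ s, co l • F l)) =
        ∑ l ∈ s, co l • wedge (Function.update F k (F l)) := fun s => by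
      induction s using Finset.induction_on with
      | empty =>
        simp only [Finset.sum_empty]
        rw [show (0 : Γ(A.L, W)) = (0 : Γ(T, W)) • F k from (zero_smul _ _).symm,
          HilbFin.wedge_update_smul, zero_smul]
      | insert l s hl ih =>
        rw [Finset.sum_insert hl, Finset.sum_insert hl, HilbFin.wedge_update_add, HilbFin.wedge_update_smul, ih]
    refine (hadd Finset.univ).trans ?_
    rw [Finset.sum_eq_single k (fun l _ hl => ?_) (fun h => absurd (Finset.mem_univ k) h), Function.update_eq_self]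
    rw [HilbFin.wedge_eq_zero (Function.update F k (F l)) (i := k) (j := l)
      (by rw [Function.update_self, Function.update_of_ne hl]) (Ne.symm hl), smul_zero]

theorem preimage_locus_of_rel {P T : Scheme.{u}} {E : X.Modules} {r : ℕ} (O : Pair E r P) (B : Pair E r T)
    (c : T ⟶ P) (h : Rel (O.pull c _ rfl) B) (i : Idx E r) : c ⁻¹ᵁ locus i O = locus i B := by
  refine le_antisymm (fun x hx => ?_) (fun x hx => ?_)
  · let W := c ⁻¹ᵁ locus i O
    have hg : Good i (B.pull W.ι _ rfl) :=
      good_of_rel i ((pull_pull O c W.ι rfl rfl rfl rfl).symm.trans (pull_congr h W.ι rfl rfl))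
        (good_pull i O (W.ι ≫ c) _ rfl fun y => y.2)
    exact mem_locus_of_good_pull i B W.ι _ rfl hg ⟨x, hx⟩
  · let W := locus i B
    have hg : Good i (O.pull (W.ι ≫ c) _ rfl) :=
      good_of_rel i ((pull_congr h W.ι rfl rfl).symm.trans (pull_pull O c W.ι rfl rfl rfl rfl))
        (good_pull i B W.ι _ rfl fun y => y.2)
    exact mem_locus_of_good_pull i O (W.ι ≫ c) _ rfl hg ⟨x, hx⟩

theorem exists_mem_locus_dec (hL : Coh.IsQCoh L) {P : Scheme.{u}} (O : Pair L 1 P) (p : P) :
    ∃ c : Idx V e, p ∈ locus (decIdx φ c) O := by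
  classical
  obtain ⟨U, hU, hpU, -⟩ := exists_isAffineOpen_mem_and_subset (show O.g p ∈ (⊤ : X.Opens) from trivial)
  obtain ⟨W, b, hW, hpW, hWU, hb⟩ := exists_affine_frame O.rank (show p ∈ O.g ⁻¹ᵁ U from hpU)
  let eqv := hb.equiv (le_refl W)
  let ev : Γ(P, W) →+* P.residueField p := (P.evaluation W p hpW).hom
  let ψ : Γ(O.L, W) → P.residueField p := fun z => ev (eqv.symm z 0)
  obtain ⟨v, hv⟩ : ∃ v : Fin e → Γ(V, U), ψ (gval O.s hWU (dec φ hU v)) ≠ 0 := by
    by_contra hcon
    simp only [not_exists, ne_eq, not_not] at hcon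
    have hall : ∀ m : Γ(L, U), ψ (gval O.s hWU m) = 0 := fun m => by
      obtain ⟨z, rfl⟩ := (φ ⟨U, hU⟩).symm.surjective m
      have hz : z ∈ Submodule.span Γ(X, U) (Set.range (exteriorPower.ιMulti Γ(X, U) e (M := SGA6Ext.Sec V U))) := by
        rw [exteriorPower.ιMulti_span]; trivial
      induction hz using Submodule.span_induction with
      | mem z hz => obtain ⟨v, rfl⟩ := hz; exact hcon fun i => v i
      | zero =>
        rw [map_zero, show gval O.s hWU (0 : Γ(L, U)) = 0 by simp only [gval, PBundle.sec', map_zero]]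
        simp [ψ]
      | add a a' _ _ ha ha' =>
        rw [map_add]
        change ψ (gval O.s hWU ((φ ⟨U, hU⟩).symm a + (φ ⟨U, hU⟩).symm a' : Γ(L, U))) = 0
        rw [gval_add]
        simp only [ψ, map_add, Pi.add_apply] at ha ha' ⊢
        rw [ha, ha', add_zero]
      | smul r a _ ha =>
        rw [map_smul]
        change ψ (gval O.s hWU (HSMul.hSMul (α := Γ(X, U)) (β := Γ(L, U)) r ((φ ⟨U, hU⟩).symm a))) = 0
        rw [gval_smul]
        simp only [ψ, map_smul, Pi.smul_apply, smul_eq_mul, map_mul] at ha ⊢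
        rw [ha, mul_zero]
    have htop := span_gval_eq_top hL hU (isQCoh_of_rank O.rank) O.s hW hWU
    have hzero : ∀ z, ψ z = 0 := fun z => by
      have hz : z ∈ Submodule.span Γ(P, W) (Set.range (gval O.s hWU)) := by rw [htop]; trivial
      induction hz using Submodule.span_induction with
      | mem z hz => obtain ⟨m, rfl⟩ := hz; exact hall m
      | zero => simp [ψ]
      | add a a' _ _ ha ha' => simp only [ψ, map_add, Pi.add_apply] at ha ha' ⊢; rw [ha, ha', add_zero]
      | smul r a _ ha => simp only [ψ, map_smul, Pi.smul_apply, smul_eq_mul, map_mul] at ha ⊢; rw [ha, mul_zero]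
    have := hzero (eqv fun _ => 1)
    simp [ψ] at this
  let C : Matrix (Fin 1) (Fin 1) Γ(P, W) := Matrix.of fun _ j => eqv.symm (gval O.s hWU (dec φ hU v)) j
  refine ⟨⟨U, hU, v⟩, basicOpen_det_le hWU hb C (fun i => ?_) ?_⟩
  · refine (eqv.apply_symm_apply (gval O.s hWU (dec φ hU v))).symm.trans ?_
    change ∑ j, eqv.symm (gval O.s hWU (dec φ hU v)) j • res O.L (le_refl W) (b j) = _
    simp only [res_self]
    rfl
  · rw [← Scheme.evaluation_ne_zero_iff_mem_basicOpen P p hpW C.det, Matrix.det_fin_one]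
    exact hv

variable {G P : Scheme.{u}} {A : Pair V e G} (hA : IsUniv A) (hV : Coh.IsQCoh V)

include hA in
/-- Functions on a chart of the Grassmannian are generated by base functions and coordinates. -/
theorem closure_eq_top_locus (c : Idx V e) (hE : Coh.IsQCoh V) {S : Subring Γ(G, locus c A)}
    (h1 : ∀ r, (A.g.appLE c.U (locus c A) (locus_le c A)).hom r ∈ S)
    (h2 : ∀ (m : Γ(V, c.U)) (co : Fin e → Γ(G, locus c A)),
      ∑ l, co l • res A.L (locus_le c A) (PBundle.sec' A.g A.s c.U (c.σ l)) =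
        res A.L (locus_le c A) (PBundle.sec' A.g A.s c.U m) → ∀ l, co l ∈ S) : S = ⊤ := by
  classical
  obtain ⟨k, hk, hrel⟩ := hA.exists_chartIso hE c
  let O := locus c A
  have e0 : (⊤ : O.toScheme.Opens) ≤ O.ι ⁻¹ᵁ O := fun x _ => x.2
  let J : Γ(G, O) →+* Γ(O.toScheme, ⊤) := (O.ι.appLE O ⊤ e0).hom
  have hJ : Function.Bijective J := by
    haveI : IsIso (O.ι.app O) := O.ι.isIso_app _ O.opensRange_ι.ge
    haveI : IsIso (O.toScheme.presheaf.map (homOfLE e0).op) := by
      rw [show (homOfLE e0) = eqToHom (top_le_iff.mp e0).symm from Subsingleton.elim _ _, eqToHom_op, eqToHom_map]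
      infer_instance
    exact ConcreteCategory.bijective_of_isIso (O.ι.app O ≫ O.toScheme.presheaf.map (homOfLE e0).op)
  obtain ⟨χ, rfl⟩ := exists_toSpec k
  haveI : IsAffine O.toScheme := IsAffine.of_isIso (HilbRep.toSpec χ)
  have hχ : Function.Surjective χ.hom := by
    haveI : IsIso (HilbRep.toSpec χ).appTop := inferInstance
    rw [HilbRep.appTop_toSpec] at this
    haveI : IsIso χ := IsIso.of_isIso_comp_left (Scheme.ΓSpecIso (CommRingCat.of (ChartRing c))).hom χ
    exact (ConcreteCategory.bijective_of_isIso χ).2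
  rw [eq_top_iff]
  intro y _
  obtain ⟨b, hb⟩ := hχ (J y)
  obtain ⟨p, rfl⟩ := Ideal.Quotient.mk_surjective b
  suffices hall : ∀ p : ChartPoly c, ∃ y ∈ S, J y = χ.hom (Ideal.Quotient.mk _ p) by
    obtain ⟨y', hy', hy''⟩ := hall p
    rwa [← hJ.1 (hy''.trans hb)]
  intro p
  induction p using MvPolynomial.induction_on with
  | C r =>
    refine ⟨_, h1 r, ?_⟩
    obtain ⟨hg, -⟩ := hrel
    change HilbRep.toSpec χ ≫ (univPair c hE).g = O.ι ≫ A.g at hg
    rw [univPair_g, chartBase, ← Category.assoc, HilbRep.toSpec_map] at hg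
    have key : A.g.appLE c.U O (locus_le c A) ≫ O.ι.appLE O ⊤ e0 = chartConst c ≫ χ := by
      rw [Scheme.Hom.appLE_comp_appLE]
      have : ∀ (g : O.toScheme ⟶ X) (_ : g = HilbRep.toSpec (chartConst c ≫ χ) ≫ c.hU.fromSpec)
          (h : (⊤ : O.toScheme.Opens) ≤ g ⁻¹ᵁ c.U), g.appLE c.U ⊤ h = chartConst c ≫ χ := by
        rintro _ rfl h
        exact appLE_toSpec_fromSpec c.hU _ h
      exact this _ hg.symm _
    exact congr($key r)
  | add p p' hp hp' =>
    obtain ⟨y, hy, hyp⟩ := hp
    obtain ⟨y', hy', hyp'⟩ := hp'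
    exact ⟨y + y', add_mem hy hy', by rw [map_add, map_add, hyp, hyp', map_add]⟩
  | mul_X p w hp =>
    obtain ⟨y, hy, hyp⟩ := hp
    obtain ⟨m, l⟩ := w
    have hfr : IsFrame fun l => res A.L (locus_le c A) (PBundle.sec' A.g A.s c.U (c.σ l)) :=
      isFrame_frameLocus (b := fun i => PBundle.sec' A.g A.s c.U (c.σ i))
    obtain ⟨co, hco⟩ := hfr.comb_surjective le_rfl (res A.L (locus_le c A) (PBundle.sec' A.g A.s c.U m))
    simp only [res_self] at hco
    refine ⟨y * co l, mul_mem hy (h2 m co hco l), ?_⟩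
    rw [map_mul, map_mul, map_mul, hyp]
    congr 1
    -- the coordinate is the pulled back coordinate function
    obtain ⟨hg, i, hi⟩ := hrel
    let B := (univPair c hE).pull (HilbRep.toSpec χ) (O.ι ≫ A.g) hg
    have hle : (⊤ : O.toScheme.Opens) ≤ (O.ι ≫ A.g) ⁻¹ᵁ c.U := fun x _ => locus_le c A x.2
    have hi' : ∃ j : B.L ≅ (A.pull O.ι _ rfl).L, B.s ≫ j.hom = (A.pull O.ι _ rfl).s := by
      exact exists_iso_of_rel ((pull_congr (Rel.refl (univPair c hE)) (HilbRep.toSpec χ) hg rfl).trans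
        (⟨hg, i, hi⟩ : Rel _ (A.pull O.ι _ rfl)))
    obtain ⟨j, hj⟩ := hi'
    have hA' : ∀ n, gval (A.pull O.ι _ rfl).s hle n = j.hom.app ⊤ (gval B.s hle n) := fun n => by
      rw [← hj]
      exact app_res j.hom hle _
    have hB : ∀ n, gval B.s hle n = OmegaSh.pullSect (HilbRep.toSpec χ) (univPair c hE).L ⊤
        (gval (univPair c hE).s (univPair_le c hE) n) := fun n => by
      rw [gval_pull, gval, PBundle.pullSect_res]
      rfl
    have hfr' : IsFrame fun l => gval (A.pull O.ι _ rfl).s hle (c.σ l) :=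
      (good_pull c A O.ι _ rfl fun x => x.2).2
    have key1 : ∑ l, J (co l) • gval (A.pull O.ι _ rfl).s hle (c.σ l) = gval (A.pull O.ι _ rfl).s hle m := by
      have e1 : ∀ n, gval (A.pull O.ι _ rfl).s hle n = res ((Scheme.Modules.pullback O.ι).obj A.L) e0
          (OmegaSh.pullSect O.ι A.L O (res A.L (locus_le c A) (PBundle.sec' A.g A.s c.U n))) := fun n => by
        rw [gval_pull, PBundle.pullSect_res, res_res]
      simp only [e1]
      rw [← hco, map_sum, map_sum]
      refine Finset.sum_congr rfl fun l _ => ?_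
      rw [OmegaSh.pullSect_smul, res_smul]
      rfl
    have key2 : ∑ l, (HilbRep.toSpec χ).appTop.hom (coordFn c m l) • gval (A.pull O.ι _ rfl).s hle (c.σ l) =
        gval (A.pull O.ι _ rfl).s hle m := by
      simp only [hA', hB]
      rw [(gval_univPair_σ c hE).2 m, map_sum, map_sum]
      refine Finset.sum_congr rfl fun l _ => ?_
      rw [OmegaSh.pullSect_smul]
      exact (Scheme.Modules.Hom.app_smul j.hom _ _).symm
    have hinj := hfr'.comb_injective (le_refl (⊤ : O.toScheme.Opens))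
      (a₁ := fun l => J (co l)) (a₂ := fun l => (HilbRep.toSpec χ).appTop.hom (coordFn c m l))
      (by simp only [res_self]; exact key1.trans key2.symm)
    refine (congrFun hinj l).trans ?_
    rw [HilbRep.appTop_toSpec]
    exact congrArg χ.hom (Iso.inv_hom_id_apply (Scheme.ΓSpecIso (CommRingCat.of (ChartRing c))) _)

include hA hφ hV in
/-- The Plücker morphism into a projective bundle of the exterior power is a closed immersion. -/
theorem exists_closedImmersion_plucker (hL : Coh.IsQCoh L) {O : Pair L 1 P} (hO : IsUniv O)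
    [IsSeparated O.g] : ∃ ι : G ⟶ P, IsClosedImmersion ι ∧ ι ≫ O.g = A.g := by
  classical
  obtain ⟨B, hBg, hBloc, hBco⟩ := exists_pluckerPair φ hφ hV A
  obtain ⟨ι, hι, -⟩ := hO B
  have hιg : ι ≫ O.g = A.g := hι.1.trans hBg
  refine ⟨ι, ?_, hιg⟩
  choose c hc using exists_mem_locus_dec (V := V) φ hL O
  let D : P → P.Opens := fun p => locus (decIdx φ (c p)) O
  refine IsZariskiLocalAtTarget.of_iSup_eq_top (P := @IsClosedImmersion) D
    (top_le_iff.1 fun p _ => Opens.mem_iSup.2 ⟨p, hc p⟩) fun p => ?_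
  let i := c p
  have hpre : ι ⁻¹ᵁ D p = locus i A := (preimage_locus_of_rel O B ι hι (decIdx φ i)).trans (hBloc i)
  haveI : IsAffine (ι ⁻¹ᵁ D p).toScheme := by
    rw [hpre]; exact hA.isAffineOpen_locus hV i
  have hDU : D p ≤ O.g ⁻¹ᵁ i.U := locus_le (decIdx φ i) O
  haveI : IsAffine i.U.toScheme := i.hU
  haveI : (D p).toScheme.IsSeparated := by
    let j : (D p).toScheme ⟶ i.U.toScheme := IsOpenImmersion.lift i.U.ι ((D p).ι ≫ O.g) (by
      rintro _ ⟨t, rfl⟩
      rw [Scheme.Opens.range_ι]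
      exact hDU t.2)
    haveI : IsSeparated (j ≫ i.U.ι) := by
      rw [IsOpenImmersion.lift_fac]; infer_instance
    haveI : IsSeparated j := IsSeparated.of_comp j i.U.ι
    haveI : i.U.toScheme.IsSeparated := inferInstance
    exact ⟨by rw [← Limits.terminal.comp_from j]; infer_instance⟩
  -- surjectivity on functions
  have e' : locus i A ≤ ι ⁻¹ᵁ D p := hpre.ge
  have hsurj : Function.Surjective (ι.appLE (D p) (locus i A) e').hom := by
    rw [← RingHom.range_eq_top]
    refine closure_eq_top_locus hA i hV (fun r => ⟨(O.g.appLE i.U (D p) hDU).hom r, ?_⟩) fun m co hco l => ?_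
    · change (O.g.appLE i.U (D p) hDU ≫ ι.appLE (D p) (locus i A) e').hom r = _
      rw [Scheme.Hom.appLE_comp_appLE]
      simp only [hιg]
    · obtain ⟨hW, hcoef⟩ := hBco i (locus i A) le_rfl l m co hco
      have hgenP : IsGen (res O.L hDU (PBundle.sec' O.g O.s i.U (dec φ i.hU i.σ))) :=
        (isFrame_one_iff _).1 (isFrame_frameLocus (b := fun _ : Fin 1 => PBundle.sec' O.g O.s i.U (dec φ i.hU i.σ)))
      obtain ⟨a, ha⟩ := (hgenP (D p) le_rfl).2
        (res O.L hDU (PBundle.sec' O.g O.s i.U (dec φ i.hU (Function.update i.σ l m))))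
      simp only [res_self] at ha
      refine ⟨a, ?_⟩
      obtain ⟨j, hj'⟩ := exists_iso_of_rel ((pull_congr (Rel.refl O) ι (g₁ := B.g) hι.1 rfl).trans hι)
      have hO' : ∀ n, gval B.s hW n =
          j.hom.app (locus i A) (res ((Scheme.Modules.pullback ι).obj O.L) e'
            (OmegaSh.pullSect ι O.L (D p) (res O.L hDU (PBundle.sec' O.g O.s i.U n)))) := fun n => by
        have h4 : gval B.s hW n = j.hom.app (locus i A) (gval (O.pull ι B.g hι.1).s hW n) := by
          rw [← hj']
          exact app_res j.hom hW _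
        rw [h4, gval_pull, PBundle.pullSect_res, res_res]
      have hgenB : IsGen (gval B.s hW (dec φ i.hU i.σ)) := by
        have h5 := (isFrame_one_iff _).1 (isFrame_frameLocus
          (b := fun _ : Fin 1 => PBundle.sec' B.g B.s i.U (dec φ i.hU i.σ)))
        have h6 := h5.res (hBloc i).ge
        rwa [res_res] at h6
      refine (hgenB (locus i A) le_rfl).1 ?_
      simp only [res_self]
      refine Eq.trans ?_ hcoef
      rw [hO', hO', ← ha, OmegaSh.pullSect_smul, res_smul, Scheme.Modules.Hom.app_smul]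
      rfl
  haveI : IsClosedImmersion ((ι ∣_ D p) ≫ (D p).toScheme.toSpecΓ) := by
    refine IsClosedImmersion.of_surjective_of_isAffine _ ?_
    have happ : ((ι ∣_ D p) ≫ (D p).toScheme.toSpecΓ).appTop =
        (Scheme.ΓSpecIso _).hom ≫ ((D p).topIso.hom ≫ ι.app (D p) ≫ (ι ⁻¹ᵁ D p).topIso.inv) := by
      rw [Scheme.Hom.comp_appTop, Scheme.toSpecΓ_appTop, morphismRestrict_appTop, Scheme.Opens.topIso_hom,
        Scheme.Opens.topIso_inv, ι.naturality_assoc, ← Functor.map_comp]
      rfl
    rw [happ]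
    have h7 : Function.Surjective (ι.app (D p)).hom := by
      intro y
      obtain ⟨a, ha⟩ := hsurj (G.presheaf.map (homOfLE e').op y)
      refine ⟨a, ?_⟩
      haveI : IsIso (G.presheaf.map (homOfLE e').op) := by
        rw [show (homOfLE e') = eqToHom hpre.symm from Subsingleton.elim _ _, eqToHom_op, eqToHom_map]
        infer_instance
      exact (ConcreteCategory.bijective_of_isIso (G.presheaf.map (homOfLE e').op)).1 ha
    simp only [CommRingCat.hom_comp, RingHom.coe_comp]
    exact ((ConcreteCategory.bijective_of_isIso (ι ⁻¹ᵁ D p).topIso.inv).2.comp h7 |>.comp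
      (ConcreteCategory.bijective_of_isIso (D p).topIso.hom).2).comp
        (ConcreteCategory.bijective_of_isIso (Scheme.ΓSpecIso _).hom).2
  exact IsClosedImmersion.of_comp (ι ∣_ D p) (D p).toScheme.toSpecΓ

end Groth.Agent.GrassQ

end
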