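import Groth.Agent.GrassQ.Univ
import Groth.Agent.GrassQ.Plucker
import Groth.Agent.GrassRep.Smooth
import Groth.Agent.CycPB.RelBundle

/-!
The charts of the Grassmannian of a locally free module: affine spaces over open pieces of the base.
-/

set_option autoImplicit false
set_option backward.isDefEq.respectTransparency false
set_option backward.isDefEq.respectTransparency.types false
set_option linter.style.haveILetI false
set_option maxHeartbeats 1000000

universe u

open CategoryTheory CategoryTheory.Limits AlgebraicGeometry TopologicalSpace Opposite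
open Groth.Agent.QC (res res_self)
open Groth.Agent.GrassRep (ChartVar genMat genMat_normalised smooth_chartAlg nonempty_chartEquiv)
open TMul (IsFrame)

noncomputable section

namespace Groth.Agent.GrassQ

variable {X : Scheme.{u}} {E : X.Modules} {e N : ℕ} {U : X.Opens} (hU : IsAffineOpen U)
  (B : Module.Basis (Fin N) Γ(X, U) Γ(E, U)) (s : Fin e → Fin N)

/-- The index of the chart given by some members of a basis. -/
abbrev frameIdx : Idx E e := ⟨U, hU, fun i => B (s i)⟩

theorem nonempty_frameEquiv (hs : Function.Injective s) :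
    ∃ f : ChartRing (frameIdx hU B s) ≃ₐ[Γ(X, U)] MvPolynomial (ChartVar s) Γ(X, U),
      ∀ (i : Fin N) (k : Fin e), f (Ideal.Quotient.mk _ (MvPolynomial.X (B i, k))) = genMat Γ(X, U) s k i := by
  classical
  let L : Fin e → Γ(E, U) →ₗ[Γ(X, U)] MvPolynomial (ChartVar s) Γ(X, U) :=
    fun k => B.constr Γ(X, U) fun i => genMat Γ(X, U) s k i
  have hL : ∀ k i, L k (B i) = genMat Γ(X, U) s k i := fun k i => B.constr_basis _ _ _
  let f₀ : MvPolynomial (Γ(E, U) × Fin e) Γ(X, U) →ₐ[Γ(X, U)] MvPolynomial (ChartVar s) Γ(X, U) :=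
    MvPolynomial.aeval fun mk => L mk.2 mk.1
  let c := frameIdx hU B s
  have hker : ∀ p ∈ Ideal.span (chartRel c), f₀ p = 0 := by
    intro p hp
    have : Ideal.span (chartRel c) ≤ RingHom.ker f₀ := by
      refine Ideal.span_le.2 ?_
      rintro q (⟨m, m', k, rfl⟩ | ⟨r, m, k, rfl⟩ | ⟨i, k, rfl⟩)
      · show f₀ _ = 0
        simp only [f₀, map_sub, MvPolynomial.aeval_X, map_add]
        ring
      · show f₀ _ = 0
        simp only [f₀, map_sub, map_mul, MvPolynomial.aeval_X, map_smul, MvPolynomial.smul_eq_C_mul,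
          ← MvPolynomial.algebraMap_eq]
        exact sub_eq_zero.2 (congrArg (· * L k m) (AlgHom.commutes f₀ r).symm)
      · show f₀ _ = 0
        have h1 := congrFun (genMat_normalised (R := Γ(X, U)) hs i) k
        rw [Matrix.col_apply, Pi.single_apply] at h1
        simp only [f₀, map_sub, MvPolynomial.aeval_X]
        rw [hL, h1]
        simp only [← MvPolynomial.algebraMap_eq, @eq_comm _ k i]
        split_ifs <;> simp
    exact this hp
  let f : ChartRing c →ₐ[Γ(X, U)] MvPolynomial (ChartVar s) Γ(X, U) := Ideal.Quotient.liftₐ _ f₀ hker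
  let φ : Fin e → Γ(E, U) →ₗ[Γ(X, U)] ChartRing c := fun k =>
    { toFun := fun m => Ideal.Quotient.mk _ (MvPolynomial.X (m, k))
      map_add' := fun m m' => by
        rw [← map_add, Ideal.Quotient.eq]
        exact Ideal.subset_span (Or.inl ⟨m, m', k, by ring⟩)
      map_smul' := fun r m => by
        rw [RingHom.id_apply, ← Ideal.Quotient.mkₐ_eq_mk Γ(X, U), ← map_smul, Ideal.Quotient.mkₐ_eq_mk,
          Ideal.Quotient.eq, MvPolynomial.smul_eq_C_mul]
        exact Ideal.subset_span (Or.inr (Or.inl ⟨r, m, k, rfl⟩)) }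
  let g : MvPolynomial (ChartVar s) Γ(X, U) →ₐ[Γ(X, U)] ChartRing c := MvPolynomial.aeval fun p => φ p.1 (B p.2.1)
  have hf : ∀ (m : Γ(E, U)) k, f (φ k m) = L k m := fun m k => by
    show f₀ (MvPolynomial.X (m, k)) = _
    simp [f₀]
  have hg : ∀ k, g.toLinearMap ∘ₗ L k = φ k := fun k => B.ext fun i => by
    show g (L k (B i)) = φ k (B i)
    rw [hL]
    simp only [genMat, Matrix.of_apply]
    by_cases h : i ∈ Set.range s
    · rw [dif_pos h]
      obtain ⟨l, rfl⟩ := h
      have h1 : φ k (B (s l)) = Ideal.Quotient.mk _ (MvPolynomial.C (if l = k then 1 else 0)) :=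
        Ideal.Quotient.eq.2 (Ideal.subset_span (Or.inr (Or.inr ⟨l, k, rfl⟩)))
      rw [h1]
      simp only [hs.eq_iff, @eq_comm _ k l]
      split_ifs <;> simp
    · rw [dif_neg h]
      exact MvPolynomial.aeval_X _ _
  refine ⟨AlgEquiv.ofAlgHom f g (MvPolynomial.algHom_ext fun p => ?_)
    (Ideal.Quotient.algHom_ext _ (MvPolynomial.algHom_ext fun mk => ?_)), fun i k => ?_⟩
  · show f (g (MvPolynomial.X p)) = MvPolynomial.X p
    rw [MvPolynomial.aeval_X, hf, hL]
    simp only [genMat, Matrix.of_apply]
    rw [dif_neg p.2.2]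
  · show g (f (φ mk.2 mk.1)) = φ mk.2 mk.1
    rw [hf]
    exact LinearMap.congr_fun (hg mk.2) mk.1
  · show f (φ k (B i)) = _
    rw [hf, hL]

theorem smooth_chartBase (hs : Function.Injective s) :
    SmoothOfRelativeDimension (e * (N - e)) (chartBase (frameIdx hU B s)) := by
  obtain ⟨f, -⟩ := nonempty_frameEquiv hU B s hs
  obtain ⟨g⟩ := nonempty_chartEquiv (R := Γ(X, U)) hs
  have h0 := smooth_chartAlg (R := Γ(X, U)) hs
  haveI : SmoothOfRelativeDimension (e * (N - e)) (Spec.map (chartConst (frameIdx hU B s))) := by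
    refine (HasRingHomProperty.Spec_iff (P := @SmoothOfRelativeDimension (e * (N - e)))).2 ?_
    refine RingHom.locally_of RingHom.isStandardSmoothOfRelativeDimension_respectsIso _ ?_
    exact (RingHom.isStandardSmoothOfRelativeDimension_algebraMap _).2
      (Algebra.IsStandardSmoothOfRelativeDimension.of_algEquiv _ (g.trans f.symm))
  exact (inferInstanceAs (SmoothOfRelativeDimension (e * (N - e) + 0)
    (Spec.map (chartConst (frameIdx hU B s)) ≫ hU.fromSpec)))

theorem range_chartBase (hs : Function.Injective s) : Set.range (chartBase (frameIdx hU B s)) = (U : Set X) := by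
  refine subset_antisymm ?_ fun y hy => ?_
  · rintro _ ⟨x, rfl⟩
    exact chartBase_le (frameIdx hU B s) (x := x) trivial
  · obtain ⟨f, -⟩ := nonempty_frameEquiv hU B s hs
    let ε : CommRingCat.of (ChartRing (frameIdx hU B s)) ⟶ Γ(X, U) :=
      CommRingCat.ofHom ((MvPolynomial.aeval fun _ : ChartVar s => (0 : Γ(X, U))).comp f.toAlgHom).toRingHom
    have hε : chartConst (frameIdx hU B s) ≫ ε = 𝟙 _ :=
      CommRingCat.hom_ext (RingHom.ext fun r =>
        ((MvPolynomial.aeval fun _ : ChartVar s => (0 : Γ(X, U))).comp f.toAlgHom).commutes r)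
    rw [← hU.range_fromSpec] at hy
    obtain ⟨x, rfl⟩ := hy
    refine ⟨Spec.map ε x, ?_⟩
    rw [← Scheme.Hom.comp_apply, chartBase, ← Category.assoc, ← Spec.map_comp, hε, Spec.map_id, Category.id_comp]

theorem irreducibleSpace_of_surjective {α β : Type*} [TopologicalSpace α] [TopologicalSpace β]
    [IrreducibleSpace α] {g : α → β} (hg : Continuous g) (hsurj : Function.Surjective g) : IrreducibleSpace β := by
  haveI : Nonempty β := ⟨g (Classical.arbitrary α)⟩
  haveI : PreirreducibleSpace β := ⟨by
    have := (IrreducibleSpace.isIrreducible_univ α).isPreirreducible.image g hg.continuousOn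
    rwa [Set.image_univ, hsurj.range_eq] at this⟩
  exact ⟨inferInstance⟩

theorem irreducibleSpace_chartScheme (hs : Function.Injective s) [IrreducibleSpace X] (hne : (U : Set X).Nonempty) :
    IrreducibleSpace (chartScheme (frameIdx hU B s)) := by
  obtain ⟨f, -⟩ := nonempty_frameEquiv hU B s hs
  haveI : IrreducibleSpace (Spec Γ(X, U)) := by
    haveI : Nonempty (Spec Γ(X, U)) := by
      obtain ⟨y, hy⟩ := hne
      rw [← hU.range_fromSpec] at hy
      exact ⟨hy.choose⟩
    haveI : PreirreducibleSpace (Spec Γ(X, U)) := ⟨by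
      simpa using (PreirreducibleSpace.isPreirreducible_univ (X := X)).preimage hU.fromSpec.isOpenEmbedding⟩
    exact ⟨inferInstance⟩
  let f' := f.trans (MvPolynomial.renameEquiv Γ(X, U) (Equiv.ulift.{u} (α := ChartVar s)).symm)
  let i := (AffineSpace.SpecIso (ULift.{u} (ChartVar s)) Γ(X, U)).hom
  have hi := irreducibleSpace_of_surjective i.continuous i.surjective
  let j := (Scheme.Spec.mapIso f'.toRingEquiv.toCommRingCatIso.op).hom
  exact @irreducibleSpace_of_surjective _ _ _ _ hi _ j.continuous j.surjective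

/-- Some members of a basis of the module give a frame of the quotient near a point. -/
theorem exists_mem_frameLocus (hE : Coh.IsQCoh E) {T : Scheme.{u}} (a : Pair E e T) (t : T) (ht : a.g t ∈ U) :
    ∃ s : Fin e → Fin N, Function.Injective s ∧ t ∈ locus (frameIdx hU B s) a := by
  classical
  obtain ⟨W, b, hW, htW, hWU, hb⟩ := exists_affine_frame a.rank (show t ∈ a.g ⁻¹ᵁ U from ht)
  have hL : Coh.IsQCoh a.L := isQCoh_of_rank a.rank
  let eqv := hb.equiv (le_refl W)
  let κ := T.residueField t
  let φ : Γ(T, W) →+* κ := (T.evaluation W t htW).hom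
  let v : Γ(E, U) → Fin e → κ := fun m j => φ (eqv.symm (gval a.s hWU m) j)
  have hv : ∀ m, v m ∈ Submodule.span κ (Set.range fun i => v (B i)) := fun m => by
    refine Submodule.span_induction (p := fun m _ => v m ∈ Submodule.span κ (Set.range fun i => v (B i)))
      ?_ ?_ ?_ ?_ (B.mem_span m)
    · rintro _ ⟨i, rfl⟩
      exact Submodule.subset_span ⟨i, rfl⟩
    · have h0 : gval a.s hWU (0 : Γ(E, U)) = 0 := by
        have := gval_add a.s hWU (0 : Γ(E, U)) 0
        rw [add_zero] at this
        exact left_eq_add.1 this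
      convert Submodule.zero_mem (Submodule.span κ (Set.range fun i => v (B i))) using 1
      funext j
      simp [v, h0]
    · intro m m' _ _ h h'
      convert Submodule.add_mem _ h h' using 1
      funext j
      simp [v, gval_add]
    · intro r m _ h
      convert Submodule.smul_mem _ (φ ((a.g.appLE U W hWU).hom r)) h using 1
      funext j
      simp [v, gval_smul]
  have hspan : Submodule.span κ (Set.range fun i => v (B i)) = ⊤ := by
    rw [eq_top_iff]
    let S : Submodule Γ(T, W) Γ(a.L, W) :=
      { carrier := {z | (fun j => φ (eqv.symm z j)) ∈ Submodule.span κ (Set.range fun i => v (B i))}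
        add_mem' := fun {z z'} hz hz' => by
          have := Submodule.add_mem (Submodule.span κ (Set.range fun i => v (B i))) (Set.mem_ofPred_eq.mp hz)
            (Set.mem_ofPred_eq.mp hz')
          rw [Set.mem_ofPred_eq]
          convert this using 1
          funext j
          simp
        zero_mem' := by
          rw [Set.mem_ofPred_eq]
          convert Submodule.zero_mem (Submodule.span κ (Set.range fun i => v (B i))) using 1
          funext j
          simp
        smul_mem' := fun r z hz => by
          have := Submodule.smul_mem (Submodule.span κ (Set.range fun i => v (B i))) (φ r) (Set.mem_ofPred_eq.mp hz)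
          rw [Set.mem_ofPred_eq]
          convert this using 1
          funext j
          simp }
    have hS : S = ⊤ := by
      rw [eq_top_iff, ← span_gval_eq_top hE hU hL a.s hW hWU, Submodule.span_le]
      rintro _ ⟨m, rfl⟩
      exact hv m
    intro y _
    rw [pi_eq_sum_univ y]
    refine Submodule.sum_mem _ fun k _ => Submodule.smul_mem _ _ ?_
    have : eqv (Pi.single k 1) ∈ S := hS ▸ Submodule.mem_top
    replace this : (fun j => φ (eqv.symm (eqv (Pi.single k 1)) j)) ∈
      Submodule.span κ (Set.range fun i => v (B i)) := this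
    convert this using 1
    funext j
    rw [LinearEquiv.symm_apply_apply]
    by_cases hjk : j = k
    · subst hjk; simp
    · simp [hjk, Ne.symm hjk]
  obtain ⟨f, hf⟩ : ∃ f : Fin e → Fin N, LinearIndependent κ fun i => v (B (f i)) := by
    let bb := Module.Basis.ofSpan hspan.ge
    let eb := bb.indexEquiv (Pi.basisFun κ (Fin e))
    have hmem : ∀ i, bb i ∈ Set.range fun i => v (B i) := fun i => Module.Basis.ofSpan_subset hspan.ge ⟨i, rfl⟩
    choose pre hpre using hmem
    refine ⟨fun i => pre (eb.symm i), ?_⟩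
    simp only [hpre]
    exact bb.linearIndependent.comp _ eb.symm.injective
  refine ⟨f, fun i i' h => hf.injective (by simp only [h]), ?_⟩
  let C : Matrix (Fin e) (Fin e) Γ(T, W) := Matrix.of fun i j => eqv.symm (gval a.s hWU (B (f i))) j
  have hdet : t ∈ T.basicOpen C.det := by
    rw [← Scheme.evaluation_ne_zero_iff_mem_basicOpen T t htW C.det]
    change φ C.det ≠ 0
    rw [RingHom.map_det]
    exact ((Matrix.isUnit_iff_isUnit_det _).1 (Matrix.linearIndependent_rows_iff_isUnit.1 hf)).ne_zero
  refine basicOpen_det_le hWU hb C (fun i => ?_) hdet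
  refine Eq.trans ?_ (Finset.sum_congr rfl fun j _ => congrArg (C i j • ·) (res_self a.L (le_refl W) (b j)))
  exact (eqv.apply_symm_apply (gval a.s hWU (B (f i)))).symm

/-- Two charts of one basis meet over a nonempty open. -/
theorem exists_mem_frameLocus_univPair (hE : Coh.IsQCoh E) (hne : (U : Set X).Nonempty)
    {t : Fin e → Fin N} (hs : Function.Injective s) (ht : Function.Injective t) :
    ∃ x, x ∈ locus (frameIdx hU B t) (univPair (frameIdx hU B s) hE) := by
  classical
  obtain ⟨f, hf⟩ := nonempty_frameEquiv hU B s hs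
  -- a bijection matching the common members
  let q : {k // t k ∈ Set.range s} ≃ {l // s l ∈ Set.range t} :=
    { toFun := fun k => ⟨k.2.choose, k.1, k.2.choose_spec.symm⟩
      invFun := fun l => ⟨l.2.choose, l.1, l.2.choose_spec.symm⟩
      left_inv := fun k => Subtype.ext (ht (((⟨k.2.choose, k.1, k.2.choose_spec.symm⟩ :
        {l // s l ∈ Set.range t}).2.choose_spec).trans k.2.choose_spec))
      right_inv := fun l => Subtype.ext (hs (((⟨l.2.choose, l.1, l.2.choose_spec.symm⟩ :
        {k // t k ∈ Set.range s}).2.choose_spec).trans l.2.choose_spec)) }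
  let ψ : Equiv.Perm (Fin e) := q.extendSubtype
  have hψ : ∀ k, (h : t k ∈ Set.range s) → s (ψ k) = t k := fun k h => by
    rw [show ψ k = _ from Equiv.extendSubtype_apply_of_mem q k h]
    exact h.choose_spec
  let val : ChartVar s → Γ(X, U) := fun p => if ∃ k, t k = p.2.1 ∧ ψ k = p.1 then 1 else 0
  have hval : ∀ i j, MvPolynomial.aeval val (genMat Γ(X, U) s j (t i)) = if ψ i = j then 1 else 0 := fun i j => by
    simp only [genMat, Matrix.of_apply]
    by_cases h : t i ∈ Set.range s
    · rw [dif_pos h, ← hψ i h]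
      simp only [hs.eq_iff, @eq_comm _ j (ψ i)]
      split_ifs <;> simp
    · rw [dif_neg h, MvPolynomial.aeval_X]
      simp only [val, ht.eq_iff, exists_eq_left]
  let c := frameIdx hU B s
  let ε : ChartRing c →+* Γ(X, U) := ((MvPolynomial.aeval val).comp f.toAlgHom).toRingHom
  let M : Matrix (Fin e) (Fin e) (ChartRing c) := Matrix.of fun i k => Ideal.Quotient.mk _ (MvPolynomial.X (B (t i), k))
  have hM : IsUnit (ε M.det) := by
    rw [RingHom.map_det]
    have : ε.mapMatrix M = (1 : Matrix (Fin e) (Fin e) Γ(X, U)).submatrix ψ id := by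
      ext i j
      show MvPolynomial.aeval val (f (Ideal.Quotient.mk _ (MvPolynomial.X (B (t i), j)))) = _
      rw [hf, hval, Matrix.submatrix_apply, id, Matrix.one_apply]
    rw [this, Matrix.det_permute, Matrix.det_one, mul_one]
    exact ((Equiv.Perm.sign ψ).isUnit.map (Int.castRingHom Γ(X, U)))
  obtain ⟨y, hy⟩ := hne
  rw [← hU.range_fromSpec] at hy
  obtain ⟨p, -⟩ := hy
  let x : chartScheme c := Spec.map (CommRingCat.ofHom ε) p
  refine ⟨x, ?_⟩
  let C : Matrix (Fin e) (Fin e) Γ(chartScheme c, ⊤) := Matrix.of fun i k => coordFn c (B (t i)) k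
  refine basicOpen_det_le (U := (univPair c hE).g ⁻¹ᵁ U) (univPair_le c hE) (gval_univPair_σ c hE).1 C
    (fun i => (gval_univPair_σ c hE).2 (B (t i))) ?_
  have hC : C = (Scheme.ΓSpecIso (CommRingCat.of (ChartRing c))).inv.hom.mapMatrix M := rfl
  rw [hC, ← RingHom.map_det, basicOpen_eq_of_affine, PrimeSpectrum.mem_basicOpen]
  intro hx
  exact p.asIdeal.ne_top_iff_one.1 p.2.ne_top (p.asIdeal.eq_top_of_isUnit_mem hx hM ▸ Submodule.mem_top)

end Groth.Agent.GrassQ

end
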