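import Groth.Agent.GrassQ.Pt
import Groth.Agent.GrassQ.Hom
import Groth.Agent.W7Strat.Frame
import Groth.Agent.LocFree.Basic

/-!
Loci where the images of given sections form a frame of a quotient.
-/

set_option autoImplicit false
set_option backward.isDefEq.respectTransparency false
set_option backward.isDefEq.respectTransparency.types false
set_option linter.style.haveILetI false

universe u

open CategoryTheory CategoryTheory.Limits AlgebraicGeometry TopologicalSpace Opposite
open Groth.Agent.QC (res resO res_res res_self res_smul app_res)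
open Groth.Agent.WeakAssLib (mgerm mgerm_smul mgerm_res)
open TMul (IsFrame)

noncomputable section

namespace Groth.Agent.GrassQ

/-- The largest open on which sections form a frame. -/
def frameLocus {P : Scheme.{u}} {G : P.Modules} {U : P.Opens} {n : ℕ} (b : Fin n → Γ(G, U)) : P.Opens :=
  sSup {O | ∃ hO : O ≤ U, IsFrame fun i => res G hO (b i)}

section FrameLocus

variable {P : Scheme.{u}} {G : P.Modules} {U : P.Opens} {n : ℕ} {b : Fin n → Γ(G, U)}

lemma frameLocus_le : frameLocus b ≤ U := sSup_le fun _ ⟨h, _⟩ => h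

lemma le_frameLocus {O : P.Opens} (hO : O ≤ U) (h : IsFrame fun i => res G hO (b i)) : O ≤ frameLocus b :=
  le_sSup ⟨hO, h⟩

lemma isFrame_frameLocus : IsFrame fun i => res G (frameLocus_le (b := b)) (b i) := fun x hx => by
  obtain ⟨O, ⟨hO, hOf⟩, hxO⟩ := Opens.mem_sSup.1 hx
  simpa only [mgerm_res] using hOf x hxO

lemma bijective_germs_iff_mem {V : P.Opens} (hV : V ≤ U) {a : Fin n → Γ(G, V)} (ha : IsFrame a)
    (c : Matrix (Fin n) (Fin n) Γ(P, V)) (hc : ∀ i, res G hV (b i) = ∑ j, c i j • a j) {z : P} (hz : z ∈ V) :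
    (Function.Bijective fun σ : Fin n → P.presheaf.stalk z => ∑ i, σ i • mgerm G (hV hz) (b i)) ↔
      z ∈ P.basicOpen c.det := by
  classical
  have h := W7Strat.bijective_germs_iff (b := fun i => res G hV (b i)) ha hz
    (c.map (P.presheaf.germ V z hz).hom) fun i => by
      rw [hc i, map_sum]
      exact Finset.sum_congr rfl fun j _ => mgerm_smul G hz _ _
  rw [← RingHom.mapMatrix_apply, ← RingHom.map_det, ← Scheme.mem_basicOpen] at h
  simpa only [mgerm_res] using h

lemma basicOpen_det_le {V : P.Opens} (hV : V ≤ U) {a : Fin n → Γ(G, V)} (ha : IsFrame a)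
    (c : Matrix (Fin n) (Fin n) Γ(P, V)) (hc : ∀ i, res G hV (b i) = ∑ j, c i j • a j) :
    P.basicOpen c.det ≤ frameLocus b :=
  le_frameLocus ((P.basicOpen_le _).trans hV) fun z hz => by
    simpa only [mgerm_res] using (bijective_germs_iff_mem hV ha c hc (P.basicOpen_le _ hz)).2 hz

end FrameLocus

variable {X : Scheme.{u}} {E : X.Modules} {e : ℕ} {T T' : Scheme.{u}}

/-- Data of a chart: sections over an affine open of the base. -/
structure Idx (E : X.Modules) (e : ℕ) : Type u where
  U : X.Opens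
  hU : IsAffineOpen U
  σ : Fin e → Γ(E, U)

variable (c : Idx E e)

/-- The locus where the chosen sections give a frame of the quotient. -/
def locus (a : Pair E e T) : T.Opens :=
  frameLocus fun i => PBundle.sec' a.g a.s c.U (c.σ i)

theorem locus_le (a : Pair E e T) : locus c a ≤ a.g ⁻¹ᵁ c.U := frameLocus_le

/-- The chosen sections give a global frame of the quotient. -/
def Good (a : Pair E e T) : Prop :=
  ∃ h : (⊤ : T.Opens) ≤ a.g ⁻¹ᵁ c.U, IsFrame fun i => gval a.s h (c.σ i)

theorem exists_affine_frame {L : T.Modules} (hL : FlatMod.IsFinLocFreeOfRank e L) {t : T} {V : T.Opens}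
    (ht : t ∈ V) : ∃ (W : T.Opens) (a : Fin e → Γ(L, W)), IsAffineOpen W ∧ t ∈ W ∧ W ≤ V ∧ IsFrame a := by
  obtain ⟨O, htO, ⟨φ⟩⟩ := hL t
  obtain ⟨D, hD, htD, hDle⟩ := exists_isAffineOpen_mem_and_subset (show t ∈ O ⊓ V from ⟨htO, ht⟩)
  obtain ⟨b⟩ := LocFree.exists_basis_sections_of_le φ hD (fun z hz => (hDle hz).1)
  refine ⟨D, b.reindex Equiv.ulift, hD, htD, fun z hz => (hDle hz).2,
    PBundle.isFrame_of_bijective (LocFree.isQCoh_of_isFinLocFree fun x => ?_) hD ?_⟩
  · obtain ⟨W, hW, h⟩ := hL x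
    exact ⟨W, e, hW, h⟩
  · convert (b.reindex Equiv.ulift).equivFun.symm.bijective using 1
    funext a
    exact ((b.reindex Equiv.ulift).equivFun_symm_apply a).symm

theorem gval_pull (a : Pair E e T) (h : T' ⟶ T) (g' : T' ⟶ X) (hg : h ≫ a.g = g') {U : X.Opens} {W : T'.Opens}
    (hW : W ≤ g' ⁻¹ᵁ U) (m : Γ(E, U)) :
    gval (a.pull h g' hg).s hW m = res ((Scheme.Modules.pullback h).obj a.L)
      (show W ≤ h ⁻¹ᵁ (a.g ⁻¹ᵁ U) by subst hg; exact hW)
      (OmegaSh.pullSect h a.L (a.g ⁻¹ᵁ U) (PBundle.sec' a.g a.s U m)) := by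
  subst hg
  rw [gval]
  congr 1
  refine Eq.trans ?_ (PBundle.sec'_bc a.s h (𝟙 _) U m)
  congr 1

theorem good_pull (a : Pair E e T) (h : T' ⟶ T) (g' : T' ⟶ X) (hg : h ≫ a.g = g')
    (hO : ∀ x, h x ∈ locus c a) : Good c (a.pull h g' hg) := by
  have hle : (⊤ : T'.Opens) ≤ g' ⁻¹ᵁ c.U := fun x _ => by
    show g' x ∈ c.U
    rw [← hg, Scheme.Hom.comp_apply]
    exact locus_le c a (hO x)
  refine ⟨hle, ?_⟩
  intro x hx
  have h1 := IsFrame.pullback h (isFrame_frameLocus (b := fun i => PBundle.sec' a.g a.s c.U (c.σ i))) x (hO x)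
  have key : ∀ i, mgerm (a.pull h g' hg).L hx (gval (a.pull h g' hg).s hle (c.σ i)) =
      mgerm ((Scheme.Modules.pullback h).obj a.L) (show x ∈ h ⁻¹ᵁ locus c a from hO x)
        (OmegaSh.pullSect h a.L (locus c a)
          (res a.L (locus_le c a) (PBundle.sec' a.g a.s c.U (c.σ i)))) := fun i => by
    rw [gval_pull]
    refine (mgerm_res _ _ hx _).trans ?_
    refine Eq.trans ?_ (congrArg (mgerm _ _) (PBundle.pullSect_res h a.L (locus_le c a) _).symm)
    exact (mgerm_res _ (h.preimage_mono (locus_le c a)) (hO x) _).symm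
  simp only [key]
  exact h1

theorem mem_locus_of_good_pull (a : Pair E e T) (h : T' ⟶ T) (g' : T' ⟶ X) (hg : h ≫ a.g = g')
    (hgood : Good c (a.pull h g' hg)) (x : T') : h x ∈ locus c a := by
  classical
  obtain ⟨hle, hfr⟩ := hgood
  have hxU : h x ∈ a.g ⁻¹ᵁ c.U := by
    show a.g (h x) ∈ c.U
    rw [← Scheme.Hom.comp_apply, hg]
    exact hle (x := x) trivial
  obtain ⟨V, b, -, hxV, hVU, hb⟩ := exists_affine_frame a.rank hxU
  obtain ⟨C, hC⟩ : ∃ C : Matrix (Fin e) (Fin e) Γ(T, V), ∀ i,
      res a.L hVU (PBundle.sec' a.g a.s c.U (c.σ i)) = ∑ j, C i j • b j := by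
    choose C hC using fun i => hb.comb_surjective le_rfl (res a.L hVU (PBundle.sec' a.g a.s c.U (c.σ i)))
    refine ⟨Matrix.of C, fun i => ?_⟩
    rw [← hC i]
    simp only [res_self, Matrix.of_apply]
  refine basicOpen_det_le hVU hb C hC ?_
  have hb' := IsFrame.pullback h hb
  let C' := C.map (h.app V).hom
  have hC' : ∀ i, res ((Scheme.Modules.pullback h).obj a.L) (h.preimage_mono hVU)
      (OmegaSh.pullSect h a.L _ (PBundle.sec' a.g a.s c.U (c.σ i))) =
        ∑ j, C' i j • OmegaSh.pullSect h a.L V (b j) := fun i => by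
    rw [← PBundle.pullSect_res h a.L hVU, hC i, map_sum]
    exact Finset.sum_congr rfl fun j _ => OmegaSh.pullSect_smul h a.L V _ _
  have h2 := (bijective_germs_iff_mem (h.preimage_mono hVU) hb' C' hC' (z := x) hxV).1 ?_
  · rw [show C'.det = (h.app V).hom C.det from ((h.app V).hom.map_det C).symm, ← Scheme.preimage_basicOpen] at h2
    exact h2
  · have key : ∀ i, mgerm (a.pull h g' hg).L (show x ∈ (⊤ : T'.Opens) from trivial)
        (gval (a.pull h g' hg).s hle (c.σ i)) =
        mgerm ((Scheme.Modules.pullback h).obj a.L) (show x ∈ h ⁻¹ᵁ (a.g ⁻¹ᵁ c.U) from hxU)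
          (OmegaSh.pullSect h a.L _ (PBundle.sec' a.g a.s c.U (c.σ i))) := fun i => by
      rw [gval_pull]
      exact mgerm_res _ _ (show x ∈ (⊤ : T'.Opens) from trivial) _
    have h3 := hfr x trivial
    simp only [key] at h3
    exact h3

theorem good_of_rel {a b : Pair E e T} (hab : Rel a b) (ha : Good c a) : Good c b := by
  obtain ⟨g, L, r, s, hs⟩ := a
  obtain ⟨g', L', r', s', hs'⟩ := b
  obtain ⟨hg, i, hi⟩ := hab
  dsimp only at hg
  subst hg
  simp [Scheme.Modules.pullbackCongr] at hi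
  dsimp only at i hi
  subst hi
  obtain ⟨hle, hfr⟩ := ha
  refine ⟨hle, ?_⟩
  have h := W7Strat.isFrame_app i hfr
  convert h using 1
  funext k
  exact app_res i.hom hle (PBundle.sec' g s c.U (c.σ k))

theorem exists_mem_locus (hE : Coh.IsQCoh E) (a : Pair E e T) (t : T) : ∃ c : Idx E e, t ∈ locus c a := by
  classical
  obtain ⟨U, hU, htU, -⟩ := exists_isAffineOpen_mem_and_subset (show a.g t ∈ (⊤ : X.Opens) from trivial)
  obtain ⟨W, b, hW, htW, hWU, hb⟩ := exists_affine_frame a.rank (show t ∈ a.g ⁻¹ᵁ U from htU)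
  have hL : Coh.IsQCoh a.L := LocFree.isQCoh_of_isFinLocFree fun x => by
    obtain ⟨W, hW, h⟩ := a.rank x
    exact ⟨W, e, hW, h⟩
  let eqv := hb.equiv (le_refl W)
  let κ := T.residueField t
  let φ : Γ(T, W) →+* κ := (T.evaluation W t htW).hom
  let v : Γ(E, U) → Fin e → κ := fun m j => φ (eqv.symm (gval a.s hWU m) j)
  have hspan : Submodule.span κ (Set.range v) = ⊤ := by
    rw [eq_top_iff]
    let S : Submodule Γ(T, W) Γ(a.L, W) :=
      { carrier := {z | (fun j => φ (eqv.symm z j)) ∈ Submodule.span κ (Set.range v)}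
        add_mem' := fun {z z'} hz hz' => by
          have := Submodule.add_mem (Submodule.span κ (Set.range v)) (Set.mem_ofPred_eq.mp hz) (Set.mem_ofPred_eq.mp hz')
          rw [Set.mem_ofPred_eq]
          convert this using 1
          funext j
          simp
        zero_mem' := by
          rw [Set.mem_ofPred_eq]
          convert Submodule.zero_mem (Submodule.span κ (Set.range v)) using 1
          funext j
          simp
        smul_mem' := fun r z hz => by
          have := Submodule.smul_mem (Submodule.span κ (Set.range v)) (φ r) (Set.mem_ofPred_eq.mp hz)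
          rw [Set.mem_ofPred_eq]
          convert this using 1
          funext j
          simp }
    have hS : S = ⊤ := by
      rw [eq_top_iff, ← span_gval_eq_top hE hU hL a.s hW hWU, Submodule.span_le]
      rintro _ ⟨m, rfl⟩
      exact Submodule.subset_span ⟨m, rfl⟩
    intro y _
    rw [pi_eq_sum_univ y]
    refine Submodule.sum_mem _ fun k _ => Submodule.smul_mem _ _ ?_
    have : eqv (Pi.single k 1) ∈ S := hS ▸ Submodule.mem_top
    replace this : (fun j => φ (eqv.symm (eqv (Pi.single k 1)) j)) ∈ Submodule.span κ (Set.range v) := this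
    convert this using 1
    funext j
    rw [LinearEquiv.symm_apply_apply]
    by_cases hjk : j = k
    · subst hjk; simp
    · simp [hjk, Ne.symm hjk]
  obtain ⟨f, hf⟩ : ∃ f : Fin e → Γ(E, U), LinearIndependent κ fun i => v (f i) := by
    let bb := Module.Basis.ofSpan hspan.ge
    let eb := bb.indexEquiv (Pi.basisFun κ (Fin e))
    have hmem : ∀ i, bb i ∈ Set.range v := fun i => Module.Basis.ofSpan_subset hspan.ge ⟨i, rfl⟩
    choose pre hpre using hmem
    refine ⟨fun i => pre (eb.symm i), ?_⟩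
    simp only [hpre]
    exact bb.linearIndependent.comp _ eb.symm.injective
  let C : Matrix (Fin e) (Fin e) Γ(T, W) := Matrix.of fun i j => eqv.symm (gval a.s hWU (f i)) j
  have hdet : t ∈ T.basicOpen C.det := by
    rw [← Scheme.evaluation_ne_zero_iff_mem_basicOpen T t htW C.det]
    change φ C.det ≠ 0
    rw [RingHom.map_det]
    exact ((Matrix.isUnit_iff_isUnit_det _).1 (Matrix.linearIndependent_rows_iff_isUnit.1 hf)).ne_zero
  refine ⟨⟨U, hU, f⟩, basicOpen_det_le hWU hb C (fun i => ?_) hdet⟩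
  refine Eq.trans ?_ (Finset.sum_congr rfl fun j _ => congrArg (C i j • ·) (res_self a.L (le_refl W) (b j)))
  exact (eqv.apply_symm_apply (gval a.s hWU (f i))).symm

end Groth.Agent.GrassQ

end
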