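import Groth.Agent.GrassQ.Glue
import Groth.Agent.GrassQ.Chart
import Mathlib.AlgebraicGeometry.Sites.Representability

/-!
Grassmannians of quasi-coherent modules exist.
-/

set_option autoImplicit false
set_option backward.isDefEq.respectTransparency false
set_option backward.isDefEq.respectTransparency.types false
set_option linter.style.haveILetI false

universe u

open CategoryTheory CategoryTheory.Limits AlgebraicGeometry TopologicalSpace Opposite

noncomputable section

namespace Groth.Agent.GrassQ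

variable {X : Scheme.{u}} {E : X.Modules} {e : ℕ}

/-- A chart as a map to the functor. -/
def chartMap (hE : Coh.IsQCoh E) (c : Idx E e) : yoneda.obj (chartScheme c) ⟶ functor E e :=
  yonedaEquiv.symm (univPair c hE).elt

theorem chartMap_app (hE : Coh.IsQCoh E) (c : Idx E e) (Y : Scheme.{u}ᵒᵖ) (h : Y.unop ⟶ chartScheme c) :
    (chartMap hE c).app Y h = ((univPair c hE).pull h _ rfl).elt := by
  change (functor E e).map h.op _ = _
  exact map_elt _ _

theorem mem_locus_iff_good (c : Idx E e) {T T' : Scheme.{u}} (a : Pair E e T) (h : T' ⟶ T) :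
    (∀ x, h x ∈ locus c a) ↔ Good c (a.pull h _ rfl) :=
  ⟨fun hO => good_pull c a h _ rfl hO, fun hg x => mem_locus_of_good_pull c a h _ rfl hg x⟩

theorem isOpenImmersion_chartMap (hE : Coh.IsQCoh E) (c : Idx E e) :
    IsOpenImmersion.presheaf (chartMap hE c) := by
  refine MorphismProperty.relative.of_exists fun T g => ?_
  obtain ⟨a, ha⟩ := exists_elt_eq (yonedaEquiv g)
  have hg : ∀ (Y : Scheme.{u}ᵒᵖ) (y : Y.unop ⟶ T), g.app Y y = (a.pull y _ rfl).elt := fun Y y => by
    rw [← map_elt, ha]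
    conv_lhs => rw [← yonedaEquiv.symm_apply_apply g]
    rfl
  let O := locus c a
  obtain ⟨k, hk, -⟩ := existsUnique_classify c hE (a.pull O.ι _ rfl)
    ((mem_locus_iff_good c a O.ι).1 fun x => x.2)
  refine ⟨O.toScheme, yoneda.map k, O.ι, ?_, inferInstance⟩
  refine IsPullback.of_forall_isPullback_app fun Y => ?_
  have hpull : ∀ (y : Y.unop ⟶ O.toScheme),
      Rel ((univPair c hE).pull (y ≫ k) _ rfl) (a.pull (y ≫ O.ι) _ rfl) := fun y =>
    ((pull_pull _ k y rfl rfl rfl rfl).symm.trans (pull_congr hk y rfl rfl)).trans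
      (pull_pull a O.ι y rfl rfl rfl rfl)
  refine (Types.isPullback_iff _ _ _ _).mpr ⟨?_, ?_, ?_⟩
  · ext (y : Y.unop ⟶ O.toScheme)
    change (chartMap hE c).app Y (y ≫ k) = g.app Y (y ≫ O.ι)
    rw [chartMap_app, hg]
    exact elt_eq_iff.2 (hpull y)
  · rintro (y : Y.unop ⟶ O.toScheme) (y' : Y.unop ⟶ O.toScheme) h
    exact (cancel_mono O.ι).mp h.2
  · rintro (x : Y.unop ⟶ chartScheme c) (y : Y.unop ⟶ T) h
    rw [chartMap_app, hg, elt_eq_iff] at h
    have hgood : Good c ((univPair c hE).pull x _ rfl) := (mem_locus_iff_good c _ x).1 fun t =>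
      mem_locus_of_good_pull c (univPair c hE) (𝟙 _) (univPair c hE).g (Category.id_comp _)
        (good_of_rel c (pull_id (univPair c hE) _).symm (good_univPair c hE)) (x t)
    have hy : ∀ t, y t ∈ O := (mem_locus_iff_good c a y).2 (good_of_rel c h hgood)
    let l := IsOpenImmersion.lift O.ι y (by
      rintro _ ⟨t, rfl⟩
      rw [Scheme.Opens.range_ι]
      exact hy t)
    have hl : l ≫ O.ι = y := IsOpenImmersion.lift_fac _ _ _
    refine ⟨l, ?_, hl⟩
    change l ≫ k = x
    refine (existsUnique_classify c hE (a.pull y _ rfl) ((mem_locus_iff_good c a y).1 hy)).unique ?_ h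
    have := hpull l
    rw [hl] at this
    exact this

theorem isLocallySurjective_chartMap (hE : Coh.IsQCoh E) :
    Presheaf.IsLocallySurjective Scheme.zariskiTopology (Sigma.desc (chartMap (e := e) hE)) := by
  refine ⟨fun {T} z => ?_⟩
  obtain ⟨a, rfl⟩ := exists_elt_eq z
  choose c hc using exists_mem_locus hE a
  let 𝒰 : T.OpenCover := Scheme.Cover.mkOfCovers T (fun t => (locus (c t) a).toScheme)
    (fun t => (locus (c t) a).ι) fun t => ⟨t, ⟨t, hc t⟩, rfl⟩
  refine GrothendieckTopology.superset_covering _ ?_ 𝒰.mem_grothendieckTopology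
  rintro V h ⟨W, y, _, ⟨t⟩, rfl⟩
  obtain ⟨k, hk, -⟩ := existsUnique_classify (c t) hE (a.pull (locus (c t) a).ι _ rfl)
    ((mem_locus_iff_good (c t) a _).1 fun s => s.2)
  refine ⟨(Sigma.ι (fun c : Idx E e => yoneda.obj (chartScheme c)) (c t)).app (op V) (y ≫ k), ?_⟩
  change ((Sigma.ι (fun c : Idx E e => yoneda.obj (chartScheme c)) (c t)) ≫ Sigma.desc (chartMap hE)).app
    (op V) (y ≫ k) = _
  rw [Sigma.ι_desc, chartMap_app]
  refine Eq.trans ?_ (map_elt a (y ≫ (locus (c t) a).ι)).symm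
  exact elt_eq_iff.2 (((pull_pull _ k y rfl rfl rfl rfl).symm.trans (pull_congr hk y rfl rfl)).trans
    (pull_pull a _ y rfl rfl rfl rfl))

/-- Grassmannians of quasi-coherent modules exist. -/
theorem exists_isGrass (hE : Coh.IsQCoh E) :
    ∃ (G : Scheme.{u}) (π : G ⟶ X) (Q : G.Modules) (q : (Scheme.Modules.pullback π).obj E ⟶ Q),
      Grass.IsGrass π E e Q q := by
  let F : Sheaf Scheme.zariskiTopology (Type u) :=
    ⟨functor E e, (isSheaf_iff_isSheaf_of_type _ _).mpr isSheaf⟩
  haveI : Presheaf.IsLocallySurjective Scheme.zariskiTopology (Sigma.desc (chartMap (e := e) hE)) :=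
    isLocallySurjective_chartMap hE
  obtain ⟨G, ⟨r⟩⟩ := Scheme.LocalRepresentability.isRepresentable (F := F) (f := chartMap (e := e) hE)
    (isOpenImmersion_chartMap hE)
  obtain ⟨A, hA⟩ := exists_elt_eq (T := G) (r.homEquiv (𝟙 G))
  have he : ∀ {T : Scheme.{u}} (m : T ⟶ G), r.homEquiv m = (A.pull m _ rfl).elt := fun {T} m => by
    rw [r.homEquiv_eq m, ← map_elt, hA]
  refine ⟨G, A.g, A.L, A.s, A.rank, A.epi, fun T g L hL s hs => ?_⟩
  let a : Pair E e T := ⟨g, L, hL, s, hs⟩
  have key : ∀ m : T ⟶ G, r.homEquiv m = a.elt ↔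
      ∃ (hg : m ≫ A.g = g) (i : (Scheme.Modules.pullback m).obj A.L ≅ L), Grass.quotBC hg A.s ≫ i.hom = s := by
    intro m
    rw [he, elt_eq_iff]
    refine ⟨?_, ?_⟩
    · rintro ⟨hg, i, hi⟩
      change m ≫ A.g = g at hg
      subst hg
      refine ⟨rfl, i, ?_⟩
      simpa [Scheme.Modules.pullbackCongr, Pair.pull, a] using hi
    · rintro ⟨hg, i, hi⟩
      subst hg
      refine ⟨rfl, i, ?_⟩
      simpa [Scheme.Modules.pullbackCongr, Pair.pull, a] using hi
  refine ⟨r.homEquiv.symm a.elt, (key _).1 (r.homEquiv.apply_symm_apply _), fun m hm => ?_⟩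
  exact r.homEquiv.injective (((key m).2 hm).trans (r.homEquiv.apply_symm_apply _).symm)

end Groth.Agent.GrassQ

end
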