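import Groth.Agent.GrassQ.FreeChart
import Groth.Agent.CycPB.ProjExist
import Groth.Agent.CurveRR.Zero

/-!
The Grassmannian of a locally free module is smooth, proper and surjective over the base, and irreducible over an
irreducible base.
-/

set_option autoImplicit false
set_option backward.isDefEq.respectTransparency false
set_option backward.isDefEq.respectTransparency.types false
set_option linter.style.haveILetI false
set_option maxHeartbeats 1000000

universe u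

open CategoryTheory CategoryTheory.Limits AlgebraicGeometry TopologicalSpace Opposite

noncomputable section

namespace Groth.Agent.GrassQ

variable {X : Scheme.{u}} {E : X.Modules} {e N : ℕ} {G : Scheme.{u}} {A : Pair E e G}

theorem IsUniv.chart_comp (hA : IsUniv A) (hE : Coh.IsQCoh E) (c : Idx E e) :
    ∃ k : (locus c A).toScheme ⟶ chartScheme c, IsIso k ∧ k ≫ chartBase c = (locus c A).ι ≫ A.g := by
  obtain ⟨k, hk, hg, -⟩ := hA.exists_chartIso hE c
  refine ⟨k, hk, ?_⟩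
  rw [← univPair_g c hE]
  exact hg

theorem IsUniv.smooth (hA : IsUniv A) (hE : FlatMod.IsFinLocFreeOfRank N E) :
    SmoothOfRelativeDimension (e * (N - e)) A.g := by
  have hq := isQCoh_of_rank hE
  have h : ∀ p : G, ∃ O : G.Opens, p ∈ O ∧ SmoothOfRelativeDimension (e * (N - e)) (O.ι ≫ A.g) := fun p => by
    obtain ⟨U, hU, hpU, ⟨B⟩⟩ := CycPB.exists_basis hE (A.g p)
    obtain ⟨s, hs, hp⟩ := exists_mem_frameLocus hU B hq A p hpU
    obtain ⟨k, hk, hcomp⟩ := hA.chart_comp hq (frameIdx hU B s)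
    refine ⟨_, hp, ?_⟩
    rw [← hcomp]
    exact (MorphismProperty.cancel_left_of_respectsIso (@SmoothOfRelativeDimension (e * (N - e))) k _).2
      (smooth_chartBase hU B s hs)
  choose O hO hsm using h
  exact IsZariskiLocalAtSource.of_iSup_eq_top (P := @SmoothOfRelativeDimension (e * (N - e))) O
    (top_le_iff.1 fun p _ => Opens.mem_iSup.2 ⟨p, hO p⟩) hsm

/-- The fibre of a chart over a point of its open is non-empty. -/
theorem IsUniv.exists_mem_locus_over (hA : IsUniv A) (hE : Coh.IsQCoh E) {U : X.Opens} (hU : IsAffineOpen U)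
    (B : Module.Basis (Fin N) Γ(X, U) Γ(E, U)) {s : Fin e → Fin N} (hs : Function.Injective s) {y : X} (hy : y ∈ U) :
    ∃ p : G, p ∈ locus (frameIdx hU B s) A ∧ A.g p = y := by
  obtain ⟨k, hk, hcomp⟩ := hA.chart_comp hE (frameIdx hU B s)
  obtain ⟨x, hx⟩ : y ∈ Set.range (chartBase (frameIdx hU B s)) := by
    rw [range_chartBase hU B s hs]; exact hy
  refine ⟨(inv k ≫ (locus (frameIdx hU B s) A).ι) x, ?_, ?_⟩
  · exact ((inv k) x).2
  · rw [← Scheme.Hom.comp_apply, Category.assoc, ← hcomp, IsIso.inv_hom_id_assoc, hx]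

theorem IsUniv.surjective (hA : IsUniv A) (hE : FlatMod.IsFinLocFreeOfRank N E) (heN : e ≤ N) :
    Surjective A.g := ⟨fun y => by
  obtain ⟨U, hU, hyU, ⟨B⟩⟩ := CycPB.exists_basis hE y
  obtain ⟨p, -, hp⟩ := hA.exists_mem_locus_over (isQCoh_of_rank hE) hU B (Fin.castLE_injective heN) hyU
  exact ⟨p, hp⟩⟩

theorem IsUniv.isProper (hA : IsUniv A) (hE : FlatMod.IsFinLocFreeOfRank N E) (heN : e ≤ N) :
    IsProper A.g := by
  have hq := isQCoh_of_rank hE
  obtain ⟨φ, hφ⟩ := SGA6Ext.isExtPow_extSh E e (fun x => by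
    obtain ⟨W, hW, h⟩ := hE x
    exact ⟨W, N, hW, h⟩)
  obtain ⟨m, hm⟩ : ∃ m, N.choose e = m + 1 :=
    ⟨N.choose e - 1, (Nat.succ_pred_eq_of_pos (Nat.choose_pos heN)).symm⟩
  have hrank : FlatMod.IsFinLocFreeOfRank (N.choose e) (SGA6Ext.extSh E e) :=
    W7Strat.isFinLocFreeOfRank_of_frames fun x => by
      obtain ⟨U, b, hxU, hb⟩ := CurveRR.exists_frame hE x
      obtain ⟨f, hf⟩ := SGA6Ext.exists_frame_extSh E e hb
      exact ⟨U, f, hxU, hf⟩
  rw [hm] at hrank
  obtain ⟨P, π, O1, u, hP, hproper, -⟩ := CycPB.exists_projBundle hrank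
  have hO : IsUniv (⟨π, O1, hP.invertible, u, hP.epi⟩ : Pair (SGA6Ext.extSh E e) 1 P) :=
    isUniv_of_isGrass (Grass.IsGrass.of_isProjBundle hP)
  haveI : IsProper π := hproper
  haveI : IsSeparated (⟨π, O1, hP.invertible, u, hP.epi⟩ : Pair (SGA6Ext.extSh E e) 1 P).g :=
    (inferInstance : IsSeparated π)
  obtain ⟨ι, hι, hιg⟩ := exists_closedImmersion_plucker φ hφ hA hq (isQCoh_of_rank hrank) hO
  rw [← hιg]
  show IsProper (ι ≫ π)
  infer_instance

theorem isPreirreducible_iUnion {α ι : Type*} [TopologicalSpace α] (W : ι → Set α) (hW : ∀ i, IsOpen (W i))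
    (hirr : ∀ i, IsPreirreducible (W i)) (hmeet : ∀ i j, (W i ∩ W j).Nonempty) :
    IsPreirreducible (⋃ i, W i) := by
  rintro u v hu hv ⟨x, hx, hxu⟩ ⟨y, hy, hyv⟩
  obtain ⟨i, hi⟩ := Set.mem_iUnion.1 hx
  obtain ⟨j, hj⟩ := Set.mem_iUnion.1 hy
  obtain ⟨w, hw, hwu, hwj⟩ := hirr i u (W j) hu (hW j) ⟨x, hi, hxu⟩ (hmeet i j)
  obtain ⟨z, hz, ⟨hzu, -⟩, hzv⟩ := hirr j (u ∩ W i) v (hu.inter (hW i)) hv ⟨w, hwj, hwu, hw⟩ ⟨y, hj, hyv⟩
  exact ⟨z, Set.mem_iUnion.2 ⟨j, hz⟩, hzu, hzv⟩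

theorem IsUniv.irreducibleSpace (hA : IsUniv A) (hE : FlatMod.IsFinLocFreeOfRank N E) (heN : e ≤ N)
    [IrreducibleSpace X] : IrreducibleSpace G := by
  have hq := isQCoh_of_rank hE
  choose U hU hyU hB using fun y : X => CycPB.exists_basis hE y
  let B := fun y => (hB y).some
  let ι : Type u := {p : X × (Fin e → Fin N) // Function.Injective p.2}
  let c : ι → Idx E e := fun p => frameIdx (hU p.1.1) (B p.1.1) p.1.2
  let W : ι → Set G := fun p => (locus (c p) A : Set G)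
  have hne : ∀ y, (U y : Set X).Nonempty := fun y => ⟨y, hyU y⟩
  have hcover : ⋃ i, W i = Set.univ := Set.eq_univ_of_forall fun p => by
    obtain ⟨s, hs, hp⟩ := exists_mem_frameLocus (hU (A.g p)) (B (A.g p)) hq A p (hyU _)
    exact Set.mem_iUnion.2 ⟨⟨(A.g p, s), hs⟩, hp⟩
  have hirr : ∀ i, IsPreirreducible (W i) := by
    rintro ⟨⟨y, s⟩, hs⟩
    obtain ⟨k, hk, -⟩ := hA.chart_comp hq (frameIdx (hU y) (B y) s)
    haveI := irreducibleSpace_chartScheme (hU y) (B y) s hs (hne y)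
    have := (PreirreducibleSpace.isPreirreducible_univ (X := chartScheme (frameIdx (hU y) (B y) s))).image
      (inv k ≫ (locus (frameIdx (hU y) (B y) s) A).ι) (Scheme.Hom.continuous _).continuousOn
    rw [Set.image_univ] at this
    convert this using 1
    refine Set.ext fun p => ⟨fun hp => ⟨k ⟨p, hp⟩, ?_⟩, ?_⟩
    · rw [← Scheme.Hom.comp_apply, IsIso.hom_inv_id_assoc]
      rfl
    · rintro ⟨x, rfl⟩
      exact ((inv k) x).2
  -- charts of one basis meet
  have hsame : ∀ y (s t : Fin e → Fin N), Function.Injective s → Function.Injective t →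
      ((locus (frameIdx (hU y) (B y) s) A : Set G) ∩ locus (frameIdx (hU y) (B y) t) A).Nonempty := by
    intro y s t hs ht
    obtain ⟨x, hx⟩ := exists_mem_frameLocus_univPair (hU y) (B y) s hq (hne y) hs ht
    obtain ⟨m, hm, -⟩ := hA (univPair (frameIdx (hU y) (B y) s) hq)
    refine ⟨m x, mem_locus_of_good_pull _ A m _ rfl (good_of_rel _ hm.symm (good_univPair _ hq)) x, ?_⟩
    rw [← preimage_locus_of_rel A _ m hm (frameIdx (hU y) (B y) t)] at hx
    exact hx
  have hmeet : ∀ i j, (W i ∩ W j).Nonempty := by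
    rintro ⟨⟨y, s⟩, hs⟩ ⟨⟨y', s'⟩, hs'⟩
    obtain ⟨z, hz, hz'⟩ := nonempty_preirreducible_inter (U y).2 (U y').2 (hne y) (hne y')
    obtain ⟨p, hp, hpz⟩ := hA.exists_mem_locus_over hq (hU y') (B y') hs' hz'
    obtain ⟨t, ht, hpt⟩ := exists_mem_frameLocus (hU y) (B y) hq A p (hpz ▸ hz)
    obtain ⟨w, hw, hwt⟩ := hsame y s t hs ht
    obtain ⟨v, -, hv, hv'⟩ := hirr ⟨(y, t), ht⟩ (W ⟨(y, s), hs⟩) (W ⟨(y', s'), hs'⟩) (locus _ A).2 (locus _ A).2
      ⟨w, hwt, hw⟩ ⟨p, hpt, hp⟩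
    exact ⟨v, hv, hv'⟩
  haveI : Nonempty G := by
    haveI := hA.surjective hE heN
    exact ⟨(A.g.surjective (Classical.arbitrary X)).choose⟩
  haveI : PreirreducibleSpace G :=
    ⟨hcover ▸ isPreirreducible_iUnion W (fun i => (locus _ A).2) hirr hmeet⟩
  exact ⟨inferInstance⟩

end Groth.Agent.GrassQ

end
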