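import Groth.Agent.GrassBC.MapOfEpi
import Groth.Agent.PBundle.FrameTools
import Mathlib.Logic.Small.Basic

/-!
The functor of locally free quotients of a fixed rank of the inverse images of a module.
-/

set_option autoImplicit false
set_option backward.isDefEq.respectTransparency false
set_option backward.isDefEq.respectTransparency.types false
set_option linter.style.haveILetI false

universe u

open CategoryTheory CategoryTheory.Limits AlgebraicGeometry TopologicalSpace Opposite
open Groth.Agent.QC (res app_res)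

noncomputable section

namespace Groth.Agent.GrassQ

variable {X : Scheme.{u}} {E : X.Modules} {e : ℕ}

/-- A locally free quotient of rank `e` of an inverse image of `E`. -/
structure Pair (E : X.Modules) (e : ℕ) (T : Scheme.{u}) where
  g : T ⟶ X
  L : T.Modules
  rank : FlatMod.IsFinLocFreeOfRank e L
  s : (Scheme.Modules.pullback g).obj E ⟶ L
  epi : Epi s

variable {T T' T'' : Scheme.{u}}

attribute [instance] Pair.epi

/-- Isomorphic quotients. -/
def Rel (a b : Pair E e T) : Prop :=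
  ∃ (hg : a.g = b.g) (i : a.L ≅ b.L), (Scheme.Modules.pullbackCongr hg).inv.app E ≫ a.s ≫ i.hom = b.s

theorem Rel.refl (a : Pair E e T) : Rel a a :=
  ⟨rfl, Iso.refl _, by simp [Scheme.Modules.pullbackCongr]⟩

theorem Rel.symm {a b : Pair E e T} (h : Rel a b) : Rel b a := by
  obtain ⟨g, L, r, s, hs⟩ := a
  obtain ⟨g', L', r', s', hs'⟩ := b
  obtain ⟨hg, i, hi⟩ := h
  dsimp only at hg
  subst hg
  refine ⟨rfl, i.symm, ?_⟩
  simp only [Scheme.Modules.pullbackCongr, eqToIso.inv, eqToHom_app, eqToHom_refl, Category.id_comp] at hi ⊢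
  rw [← hi]
  simp

theorem Rel.trans {a b c : Pair E e T} (h : Rel a b) (h' : Rel b c) : Rel a c := by
  obtain ⟨g, L, r, s, hs⟩ := a
  obtain ⟨g', L', r', s', hs'⟩ := b
  obtain ⟨g'', L'', r'', s'', hs''⟩ := c
  obtain ⟨hg, i, hi⟩ := h
  obtain ⟨hg', j, hj⟩ := h'
  dsimp only at hg hg'
  subst hg hg'
  refine ⟨rfl, i ≪≫ j, ?_⟩
  simp only [Scheme.Modules.pullbackCongr, eqToIso.inv, eqToHom_app, eqToHom_refl, Category.id_comp] at hi hj ⊢
  rw [← hj, ← hi]
  simp

instance setoid : Setoid (Pair E e T) := ⟨Rel, Rel.refl, Rel.symm, Rel.trans⟩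

/-- Isomorphism classes of quotients. -/
abbrev Cls (E : X.Modules) (e : ℕ) (T : Scheme.{u}) : Type (u + 1) := Quotient (setoid (E := E) (e := e) (T := T))

/-- Quotient maps with the same kernel are isomorphic. -/
theorem exists_iso_of_app_eq_zero_iff {A L L' : T.Modules} (s : A ⟶ L) (s' : A ⟶ L') [Epi s] [Epi s']
    (h : ∀ V (x : Γ(A, V)), s.app V x = 0 ↔ s'.app V x = 0) : ∃ i : L ≅ L', s ≫ i.hom = s' := by
  have key : ∀ {B B' : T.Modules} (t : A ⟶ B) (t' : A ⟶ B') [Epi t],
      (∀ V (x : Γ(A, V)), t.app V x = 0 → t'.app V x = 0) → ∃ i : B ⟶ B', t ≫ i = t' := by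
    intro B B' t t' _ hh
    have h0 : kernel.ι t ≫ t' = 0 := Scheme.Modules.hom_ext _ _ fun V => by
      ext k
      exact hh V _ (PBundle.kernel_app t k)
    have hex : (ShortComplex.mk (kernel.ι t) t (kernel.condition t)).Exact := ShortComplex.exact_kernel t
    exact ⟨hex.desc t' h0, hex.g_desc t' h0⟩
  obtain ⟨i, hi⟩ := key s s' fun V x => (h V x).1
  obtain ⟨j, hj⟩ := key s' s fun V x => (h V x).2
  refine ⟨⟨i, j, (cancel_epi s).1 ?_, (cancel_epi s').1 ?_⟩, hi⟩
  · rw [← Category.assoc, hi, hj, Category.comp_id]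
  · rw [← Category.assoc, hj, hi, Category.comp_id]

theorem rel_of_kernel_eq {a b : Pair E e T} (hg : a.g = b.g)
    (h : ∀ V (x : Γ((Scheme.Modules.pullback b.g).obj E, V)),
      ((Scheme.Modules.pullbackCongr hg).inv.app E ≫ a.s).app V x = 0 ↔ b.s.app V x = 0) : Rel a b := by
  haveI : Epi ((Scheme.Modules.pullbackCongr hg).inv.app E ≫ a.s) := epi_comp _ _
  obtain ⟨i, hi⟩ := exists_iso_of_app_eq_zero_iff _ _ h
  exact ⟨hg, i, by rw [← Category.assoc, hi]⟩

instance small_cls : Small.{u} (Cls E e T) := by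
  let f : Cls E e T → Σ g : T ⟶ X, ∀ V : T.Opens, Set Γ((Scheme.Modules.pullback g).obj E, V) :=
    Quotient.lift (fun a => ⟨a.g, fun V => {x | a.s.app V x = 0}⟩) (by
      intro a b h
      obtain ⟨g, L, r, s, hs⟩ := a
      obtain ⟨g', L', r', s', hs'⟩ := b
      obtain ⟨hg, i, hi⟩ := h
      dsimp only at hg
      subst hg
      simp [Scheme.Modules.pullbackCongr] at hi
      dsimp only at i hi
      subst hi
      refine Sigma.ext rfl (heq_of_eq (funext fun V => Set.ext fun x => ?_))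
      refine ⟨fun (h : s.app V x = 0) => ?_, fun (h : (s ≫ i.hom).app V x = 0) => ?_⟩
      · show i.hom.app V (s.app V x) = 0
        rw [h, map_zero]
      · show s.app V x = 0
        rw [show s = (s ≫ i.hom) ≫ i.inv by simp]
        show i.inv.app V ((s ≫ i.hom).app V x) = 0
        rw [h, map_zero])
  refine small_of_injective (f := f) ?_
  rintro ⟨a⟩ ⟨b⟩ h
  obtain ⟨g, L, r, s, hs⟩ := a
  obtain ⟨g', L', r', s', hs'⟩ := b
  obtain ⟨hg, hk⟩ := Sigma.ext_iff.1 h
  dsimp only [f, Quotient.lift_mk] at hg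
  obtain rfl : g = g' := hg
  have hk' := eq_of_heq hk
  refine Quotient.sound (rel_of_kernel_eq rfl fun V x => ?_)
  have := Set.ext_iff.1 (congrFun hk' V) x
  simpa [Scheme.Modules.pullbackCongr, f] using this

/-- Base change of a quotient. -/
def Pair.pull (a : Pair E e T) (h : T' ⟶ T) (g' : T' ⟶ X) (hg : h ≫ a.g = g') : Pair E e T' where
  g := g'
  L := (Scheme.Modules.pullback h).obj a.L
  rank x := by
    obtain ⟨U, hU, ⟨i⟩⟩ := a.rank (h x)
    exact ⟨h ⁻¹ᵁ U, hU, ModDesc.exists_free_pullback h i⟩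
  s := Grass.quotBC hg a.s
  epi := by
    haveI := Grass.epi_pullback_map h a.s
    dsimp only [Grass.quotBC]
    infer_instance

theorem pull_congr {a b : Pair E e T} (hab : Rel a b) (h : T' ⟶ T) {g₁ g₂ : T' ⟶ X} (h₁ : h ≫ a.g = g₁)
    (h₂ : h ≫ b.g = g₂) : Rel (a.pull h g₁ h₁) (b.pull h g₂ h₂) := by
  obtain ⟨g, L, r, s, hs⟩ := a
  obtain ⟨g', L', r', s', hs'⟩ := b
  obtain ⟨hg, i, hi⟩ := hab
  dsimp only at hg h₁ h₂
  subst hg
  simp [Scheme.Modules.pullbackCongr] at hi
  dsimp only at i hi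
  subst hi h₁
  subst h₂
  refine ⟨rfl, (Scheme.Modules.pullback h).mapIso i, ?_⟩
  dsimp only [Pair.pull]
  rw [GrassBC.quotBC_comp]
  simp [Scheme.Modules.pullbackCongr]

theorem pull_pull (a : Pair E e T) (h : T' ⟶ T) (h' : T'' ⟶ T') {g' : T' ⟶ X} {g'' g₃ : T'' ⟶ X}
    (hg : h ≫ a.g = g') (hg' : h' ≫ g' = g'') {k : T'' ⟶ T} (hk : h' ≫ h = k) (hk₃ : k ≫ a.g = g₃) :
    Rel ((a.pull h g' hg).pull h' g'' hg') (a.pull k g₃ hk₃) := by
  have : g'' = g₃ := by rw [← hg', ← hg, ← Category.assoc, hk, hk₃]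
  subst this
  refine ⟨rfl, (Scheme.Modules.pullbackComp h' h).app _ ≪≫ (Scheme.Modules.pullbackCongr hk).app _, ?_⟩
  dsimp only [Pair.pull]
  refine Eq.trans ?_ (GrassBC.quotBC_quotBC hg hg' hk hk₃ a.s)
  simp [Scheme.Modules.pullbackCongr]

theorem pull_id (a : Pair E e T) {g' : T ⟶ X} (hg : 𝟙 T ≫ a.g = g') : Rel (a.pull (𝟙 T) g' hg) a := by
  have : g' = a.g := by rw [← hg, Category.id_comp]
  subst this
  refine ⟨rfl, (Scheme.Modules.pullbackId T).app _, ?_⟩
  dsimp only [Pair.pull]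
  refine Eq.trans ?_ (GrassBC.quotBC_id a.s)
  simp [Scheme.Modules.pullbackCongr]

/-- Base change of a class. -/
def Cls.pull (h : T' ⟶ T) : Cls E e T → Cls E e T' :=
  Quotient.map (fun a => a.pull h _ rfl) fun _ _ hab => pull_congr hab h rfl rfl

variable (E e)

/-- The Grassmannian functor. -/
def functor : Scheme.{u}ᵒᵖ ⥤ Type u where
  obj T := Shrink.{u} (Cls E e T.unop)
  map h := TypeCat.ofHom fun x => equivShrink _ (Cls.pull h.unop ((equivShrink _).symm x))
  map_id T := by
    refine ConcreteCategory.hom_ext _ _ fun x => ?_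
    obtain ⟨c, rfl⟩ := (equivShrink _).surjective x
    obtain ⟨a, rfl⟩ := Quotient.exists_rep c
    change equivShrink _ (Cls.pull _ ((equivShrink _).symm (equivShrink _ _))) = equivShrink _ _
    rw [Equiv.symm_apply_apply]
    exact congrArg _ (Quotient.sound (pull_id a _))
  map_comp h h' := by
    refine ConcreteCategory.hom_ext _ _ fun x => ?_
    obtain ⟨c, rfl⟩ := (equivShrink _).surjective x
    obtain ⟨a, rfl⟩ := Quotient.exists_rep c
    change equivShrink _ (Cls.pull _ ((equivShrink _).symm (equivShrink _ _))) =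
      equivShrink _ (Cls.pull _ ((equivShrink _).symm (equivShrink _ (Cls.pull _ ((equivShrink _).symm
        (equivShrink _ _))))))
    simp only [Equiv.symm_apply_apply]
    exact congrArg _ (Quotient.sound (Rel.symm (pull_pull a _ _ _ rfl rfl _)))

variable {E e}

/-- The element of the functor of a quotient. -/
def Pair.elt (a : Pair E e T) : (functor E e).obj (op T) := equivShrink _ (Quotient.mk setoid a)

theorem exists_elt_eq (x : (functor E e).obj (op T)) : ∃ a : Pair E e T, a.elt = x := by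
  obtain ⟨c, rfl⟩ := (equivShrink _).surjective x
  obtain ⟨a, rfl⟩ := Quotient.exists_rep c
  exact ⟨a, rfl⟩

theorem elt_eq_iff {a b : Pair E e T} : a.elt = b.elt ↔ Rel a b :=
  (equivShrink _).injective.eq_iff.trans Quotient.eq

theorem map_elt (a : Pair E e T) (h : T' ⟶ T) :
    (functor E e).map h.op a.elt = (a.pull h _ rfl).elt := by
  change equivShrink _ _ = equivShrink _ _
  refine congrArg _ ?_
  change Cls.pull h ((equivShrink _).symm (equivShrink _ _)) = _
  rw [Equiv.symm_apply_apply]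
  rfl

end Groth.Agent.GrassQ

end
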