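import Groth.Agent.GrassQ.Univ
import Groth.Prelude.Def_FGA

/-!
A Grassmannian represents the functor of submodules with locally free quotient.
-/

set_option autoImplicit false
set_option backward.isDefEq.respectTransparency false
set_option backward.isDefEq.respectTransparency.types false
set_option linter.style.haveILetI false

universe u

open CategoryTheory CategoryTheory.Limits AlgebraicGeometry TopologicalSpace Opposite

noncomputable section

namespace Groth.Agent.GrassQ

/-- The image of the pulled back kernel of an epimorphism is the kernel of the pulled back epimorphism. -/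
theorem imageSubobject_map_arrow {T T' : Scheme.{u}} (f : T' ⟶ T) {F : T.Modules} {F' : T'.Modules}
    (θ : (Scheme.Modules.pullback f).obj F ≅ F') (K : Subobject F) {Q : T.Modules} (u : F ⟶ Q) [Epi u]
    (hK : K = kernelSubobject u) :
    imageSubobject ((Scheme.Modules.pullback f).map K.arrow ≫ θ.hom) =
      kernelSubobject (θ.inv ≫ (Scheme.Modules.pullback f).map u) := by
  subst hK
  have h0 : (kernelSubobject u).arrow ≫ u = 0 := kernelSubobject_arrow_comp u
  have hS : (ShortComplex.mk (kernelSubobject u).arrow u h0).Exact := by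
    exact ShortComplex.exact_of_iso (S₁ := ShortComplex.mk (kernel.ι u) u (kernel.condition u))
      (ShortComplex.isoMk (kernelSubobjectIso u).symm (Iso.refl _) (Iso.refl _) (by simp) (by simp))
      (ShortComplex.exact_kernel u)
  haveI : PreservesFiniteColimits (Scheme.Modules.pullback f) :=
    haveI : PreservesColimitsOfSize.{u, u} (Scheme.Modules.pullback f) :=
      (Scheme.Modules.pullbackPushforwardAdjunction f).leftAdjoint_preservesColimits
    PreservesColimitsOfSize.preservesFiniteColimits _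
  have h2 := hS.map_of_epi_of_preservesCokernel (Scheme.Modules.pullback f) inferInstance inferInstance
  have h0' : ((Scheme.Modules.pullback f).map (kernelSubobject u).arrow ≫ θ.hom) ≫
      (θ.inv ≫ (Scheme.Modules.pullback f).map u) = 0 := by
    simp [← Functor.map_comp, h0]
  let S' := ShortComplex.mk _ _ h0'
  have h3 : S'.Exact := ShortComplex.exact_of_iso
    (S₁ := (ShortComplex.mk (kernelSubobject u).arrow u h0).map (Scheme.Modules.pullback f)) (S₂ := S')
    (ShortComplex.isoMk (Iso.refl _) θ (Iso.refl _) (by simp [S']) (by simp [S'])) h2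
  exact S'.exact_iff_image_eq_kernel.1 h3

variable {X : Scheme.{u}} {V : X.Modules} {e : ℕ}

theorem rel_of_kernelSubobject_eq {T : Scheme.{u}} {a b : Pair V e T} (hg : a.g = b.g)
    (h : kernelSubobject ((Scheme.Modules.pullbackCongr hg).inv.app V ≫ a.s) = kernelSubobject b.s) :
    Rel a b := by
  obtain ⟨g, L, r, s, hs⟩ := a
  obtain ⟨g', L', r', s', hs'⟩ := b
  dsimp only at hg h
  subst hg
  simp [Scheme.Modules.pullbackCongr] at h
  have hs₁ : (kernelSubobject s).arrow ≫ s' = 0 := by
    rw [← Subobject.ofLE_arrow h.le, Category.assoc, kernelSubobject_arrow_comp, comp_zero]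
  have hs₂ : (kernelSubobject s').arrow ≫ s = 0 := by
    rw [← Subobject.ofLE_arrow h.ge, Category.assoc, kernelSubobject_arrow_comp, comp_zero]
  have key : ∀ {M M' : T.Modules} (t : (Scheme.Modules.pullback g).obj V ⟶ M)
      (t' : (Scheme.Modules.pullback g).obj V ⟶ M') [Epi t], (kernelSubobject t).arrow ≫ t' = 0 →
      ∃ i : M ⟶ M', t ≫ i = t' := by
    intro M M' t t' _ ht
    have h0 : kernel.ι t ≫ t' = 0 := by
      rw [← kernelSubobject_arrow', Category.assoc, ht, comp_zero]
    have hex : (ShortComplex.mk (kernel.ι t) t (kernel.condition t)).Exact := ShortComplex.exact_kernel t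
    exact ⟨hex.desc t' h0, hex.g_desc t' h0⟩
  obtain ⟨i, hi⟩ := key s s' hs₁
  obtain ⟨j, hj⟩ := key s' s hs₂
  refine ⟨rfl, ⟨i, j, (cancel_epi s).1 ?_, (cancel_epi s').1 ?_⟩, ?_⟩
  · rw [← Category.assoc, hi, hj, Category.comp_id]
  · rw [← Category.assoc, hj, hi, Category.comp_id]
  · simpa [Scheme.Modules.pullbackCongr] using hi

theorem kernelSubobject_eq_of_rel {T : Scheme.{u}} {a b : Pair V e T} (h : Rel a b) :
    ∃ hg : a.g = b.g, kernelSubobject ((Scheme.Modules.pullbackCongr hg).inv.app V ≫ a.s) = kernelSubobject b.s := by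
  obtain ⟨hg, i, hi⟩ := h
  refine ⟨hg, ?_⟩
  rw [← hi, ← Category.assoc]
  exact (kernelSubobject_comp_mono _ _).symm

theorem exists_representing_subobject (hV : Coh.IsQCoh V) {G : Scheme.{u}} {A : Pair V e G} (hA : IsUniv A) :
    ∃ K : Subobject (FGA.ET (𝟙 X) V (Over.mk A.g)),
      FlatMod.IsFinLocFreeOfRank e (cokernel K.arrow) ∧
      ∀ (T : Over X) (K' : Subobject (FGA.ET (𝟙 X) V T)),
        FlatMod.IsFinLocFreeOfRank e (cokernel K'.arrow) →
          ∃! g : T ⟶ Over.mk A.g, FGA.quotPull (𝟙 X) V g K = K' := by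
  let fG := pullback.fst (𝟙 X) (Over.mk A.g).hom
  let pG : pullback (𝟙 X) (Over.mk A.g).hom ⟶ G := pullback.snd (𝟙 X) (Over.mk A.g).hom
  have hfG : pG ≫ A.g = fG := (pullback.condition (f := 𝟙 X) (g := (Over.mk A.g).hom)).symm.trans (Category.comp_id _)
  let U := A.pull pG fG hfG
  haveI : Epi U.s := U.epi
  have hcok : ∀ {T : Scheme.{u}} {F Q : T.Modules} (u : F ⟶ Q) [Epi u],
      Nonempty (cokernel (kernelSubobject u).arrow ≅ Q) := fun {T F Q} u _ => by
    have h0 : (kernelSubobject u).arrow ≫ u = 0 := kernelSubobject_arrow_comp u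
    have hS : (ShortComplex.mk (kernelSubobject u).arrow u h0).Exact :=
      ShortComplex.exact_of_iso (S₁ := ShortComplex.mk (kernel.ι u) u (kernel.condition u))
        (ShortComplex.isoMk (kernelSubobjectIso u).symm (Iso.refl _) (Iso.refl _) (by simp) (by simp))
        (ShortComplex.exact_kernel u)
    exact ⟨(cokernelIsCokernel _).coconePointUniqueUpToIso hS.gIsCokernel⟩
  refine ⟨kernelSubobject U.s, ?_, fun T K' hK' => ?_⟩
  · obtain ⟨i⟩ := hcok U.s
    exact fun x => by
      obtain ⟨W, hW, ⟨b⟩⟩ := U.rank x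
      exact ⟨W, hW, ⟨(Scheme.Modules.restrictFunctor W.ι).mapIso i ≪≫ b⟩⟩
  let fT := pullback.fst (𝟙 X) T.hom
  let pT : pullback (𝟙 X) T.hom ⟶ T.left := pullback.snd (𝟙 X) T.hom
  have hfT : pT ≫ T.hom = fT := (pullback.condition (f := 𝟙 X) (g := T.hom)).symm.trans (Category.comp_id _)
  haveI : IsIso pT := pullback_snd_iso_of_left_iso _ _
  let a : Pair V e (pullback (𝟙 X) T.hom) := ⟨fT, cokernel K'.arrow, hK', cokernel.π K'.arrow, inferInstance⟩
  have hK'eq : kernelSubobject a.s = K' := by
    have hex : (ShortComplex.mk K'.arrow (cokernel.π K'.arrow) (cokernel.condition _)).Exact :=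
      ShortComplex.exact_cokernel K'.arrow
    exact ((ShortComplex.exact_iff_image_eq_kernel _).1 hex).symm.trans
      ((imageSubobject_mono K'.arrow).trans (Subobject.mk_arrow K'))
  have hkey : ∀ g : T ⟶ Over.mk A.g, FGA.quotPull (𝟙 X) V g (kernelSubobject U.s) = K' ↔
      Rel (A.pull (pT ≫ g.left) _ rfl) a := by
    intro g
    have hp : PicF.XTmap (𝟙 X) g ≫ pG = pT ≫ g.left := by
      simp [PicF.XTmap, pG, pT, Limits.pullback.map]
    have hfst : PicF.XTmap (𝟙 X) g ≫ fG = fT := FGA.XTmap_fst (𝟙 X) g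
    have h1 : FGA.quotPull (𝟙 X) V g (kernelSubobject U.s) =
        kernelSubobject (U.pull (PicF.XTmap (𝟙 X) g) fT hfst).s := by
      refine (imageSubobject_map_arrow _ (FGA.ETiso (𝟙 X) V g) _ U.s rfl).trans ?_
      congr 1
    have h2 : Rel (U.pull (PicF.XTmap (𝟙 X) g) fT hfst) (A.pull (pT ≫ g.left) _ rfl) :=
      pull_pull A pG _ hfG hfst hp rfl
    constructor
    · intro h
      refine h2.symm.trans (rel_of_kernelSubobject_eq rfl ?_)
      rw [hK'eq]
      refine Eq.trans ?_ (h1.symm.trans h)
      congr 1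
    · intro h
      obtain ⟨_, hk⟩ := kernelSubobject_eq_of_rel (h2.trans h)
      rw [h1, ← hK'eq]
      refine Eq.trans ?_ hk
      congr 1
  obtain ⟨m, hm, huniq⟩ := hA a
  have hw : (inv pT ≫ m) ≫ A.g = T.hom := by
    rw [Category.assoc, IsIso.inv_comp_eq, hfT]
    exact hm.1
  refine ⟨Over.homMk (inv pT ≫ m) hw, (hkey _).2 ?_, fun g hg => Over.OverMorphism.ext ?_⟩
  · refine Rel.trans ?_ hm
    have : pT ≫ inv pT ≫ m = m := IsIso.hom_inv_id_assoc pT m
    exact (pull_id _ (Category.id_comp _)).symm.trans (pull_pull A _ (𝟙 _) rfl (Category.id_comp _)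
      (by simp) (by simp))
  · have := huniq _ ((hkey g).1 hg)
    show g.left = inv pT ≫ m
    rw [← this, IsIso.inv_hom_id_assoc]

end Groth.Agent.GrassQ

end
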